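import Groth.Agent.L17.ComplExt.Setting
import Groth.Agent.S0543
import Mathlib.RingTheory.AdicCompletion.LocalRing
import Mathlib.RingTheory.AdicCompletion.Completeness

/-!
# Passing to the completion of the base ring
-/

set_option autoImplicit false
set_option linter.style.haveILetI false
set_option linter.unusedSectionVars false
set_option backward.isDefEq.respectTransparency false
set_option backward.isDefEq.respectTransparency.types false

universe u

open CategoryTheory CategoryTheory.Limits AlgebraicGeometry TopologicalSpace Opposite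

noncomputable section

namespace Groth.L17.ComplExt.BaseCompl

open Groth.L17.FSheaf

section Ring

variable {B : Type u} [CommRing B] (J : Ideal B)

/-- The completed ring. -/
abbrev Bh : Type u := AdicCompletion J B

/-- The completed ideal. -/
abbrev Jh : Ideal (Bh J) := J.map (algebraMap B (Bh J))

theorem isAdicComplete_Jh [IsNoetherianRing B] : IsAdicComplete (Jh J) (Bh J) :=
  AdicCompletion.isAdicComplete_self J (IsNoetherian.noetherian J)

theorem ker_evalₐ [IsNoetherianRing B] (n : ℕ) (x : Bh J) : x ∈ Jh J ^ n ↔ AdicCompletion.evalₐ J n x = 0 := by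
  have h : (J ^ n • ⊤ : Ideal B) ≤ J ^ n := by simp
  have hinj : Function.Injective (Ideal.Quotient.factor h) := by
    rw [injective_iff_map_eq_zero]
    intro y hy
    obtain ⟨y, rfl⟩ := Ideal.Quotient.mk_surjective y
    rw [Ideal.Quotient.factor_mk, Ideal.Quotient.eq_zero_iff_mem] at hy
    exact (Ideal.Quotient.eq_zero_iff_mem).2 (by simpa using hy)
  rw [Jh, ← Ideal.map_pow, ← AdicCompletion.factor_eval_eq_evalₐ J x h]
  constructor
  · intro hx
    have hx' : x ∈ (J ^ n • ⊤ : Submodule B (Bh J)) := by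
      rw [Ideal.smul_top_eq_map]; exact hx
    rw [AdicCompletion.pow_smul_top_eq_ker_eval (IsNoetherian.noetherian J), LinearMap.mem_ker] at hx'
    exact (congrArg (Ideal.Quotient.factor h) hx').trans (map_zero _)
  · intro hx
    have hx' : x ∈ (J ^ n • ⊤ : Submodule B (Bh J)) := by
      rw [AdicCompletion.pow_smul_top_eq_ker_eval (IsNoetherian.noetherian J), LinearMap.mem_ker]
      exact hinj (hx.trans (map_zero _).symm)
    rw [Ideal.smul_top_eq_map] at hx'
    exact hx'

theorem quot_surjective [IsNoetherianRing B] (n : ℕ) :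
    Function.Surjective ((Ideal.Quotient.mk (Jh J ^ n)).comp (algebraMap B (Bh J))) := by
  intro y
  obtain ⟨x, rfl⟩ := Ideal.Quotient.mk_surjective y
  obtain ⟨b, hb⟩ := Ideal.Quotient.mk_surjective (AdicCompletion.evalₐ J n x)
  refine ⟨b, (Ideal.Quotient.eq).2 ((ker_evalₐ J n _).2 ?_)⟩
  rw [map_sub, AlgHom.commutes, sub_eq_zero]
  exact hb

theorem quot_ker [IsNoetherianRing B] (n : ℕ) :
    RingHom.ker ((Ideal.Quotient.mk (Jh J ^ n)).comp (algebraMap B (Bh J))) = J ^ n := by
  ext b
  rw [RingHom.mem_ker, RingHom.comp_apply, Ideal.Quotient.eq_zero_iff_mem, ker_evalₐ, AlgHom.commutes]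
  exact Ideal.Quotient.eq_zero_iff_mem

end Ring

/-- Closed immersions with the same kernel. -/
theorem exists_iso_of_ker_eq {P Q X : Scheme.{u}} (i : P ⟶ X) (j : Q ⟶ X) [IsClosedImmersion i] [IsClosedImmersion j]
    (h : i.ker = j.ker) : ∃ e : P ≅ Q, e.hom ≫ j = i := by
  refine ⟨⟨IsClosedImmersion.lift j i h.ge, IsClosedImmersion.lift i j h.le, ?_, ?_⟩, IsClosedImmersion.lift_fac _ _ _⟩
  · rw [← cancel_mono i, Category.assoc, IsClosedImmersion.lift_fac, IsClosedImmersion.lift_fac, Category.id_comp]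
  · rw [← cancel_mono j, Category.assoc, IsClosedImmersion.lift_fac, IsClosedImmersion.lift_fac, Category.id_comp]

theorem idealSpec_pow {A : Type u} [CommRing A] (K : Ideal A) (n : ℕ) :
    FSch.idealSpec A K ^ n = FSch.idealSpec A (K ^ n) := by
  refine Scheme.IdealSheafData.ext_of_isAffine ?_
  rw [Scheme.IdealSheafData.ideal_pow, Pi.pow_apply, idealSpec_ideal_top, idealSpec_ideal_top, Ideal.map_pow]

/-- The kernel of a surjection of rings. -/
theorem ker_specMap {A C : Type u} [CommRing A] [CommRing C] (ψ : A →+* C) (hψ : Function.Surjective ψ) :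
    (Spec.map (CommRingCat.ofHom ψ)).ker = FSch.idealSpec A (RingHom.ker ψ) := by
  let e : CommRingCat.of (A ⧸ RingHom.ker ψ) ≅ CommRingCat.of C :=
    (RingHom.quotientKerEquivOfSurjective hψ).toCommRingCatIso
  have : CommRingCat.ofHom ψ = CommRingCat.ofHom (Ideal.Quotient.mk (RingHom.ker ψ)) ≫ e.hom := by
    ext a; rfl
  rw [this, Spec.map_comp]
  haveI : IsClosedImmersion (Spec.map (CommRingCat.ofHom (Ideal.Quotient.mk (RingHom.ker ψ)))) :=
    IsClosedImmersion.spec_of_surjective _ Ideal.Quotient.mk_surjective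
  exact Scheme.Hom.ker_comp_of_isIso _ _

variable {B : Type u} [CommRing B] [IsNoetherianRing B] (J : Ideal B)

/-- The base change map. -/
abbrev bmap : Spec (CommRingCat.of (Bh J)) ⟶ Spec (CommRingCat.of B) :=
  Spec.map (CommRingCat.ofHom (algebraMap B (Bh J)))

/-- The thickenings of the completed base are those of the base. -/
theorem level (k : ℕ) :
    IsClosedImmersion (FSch.completionToX _ (FSch.idealSpec (Bh J) (Jh J)) k ≫ bmap J) ∧
      (FSch.completionToX _ (FSch.idealSpec (Bh J) (Jh J)) k ≫ bmap J).ker = FSch.idealSpec B J ^ (k + 1) := by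
  let t := Spec.map (CommRingCat.ofHom (Ideal.Quotient.mk (Jh J ^ (k + 1))))
  haveI : IsClosedImmersion t := IsClosedImmersion.spec_of_surjective _ Ideal.Quotient.mk_surjective
  haveI := isClosedImmersion_completionToX (FSch.idealSpec (Bh J) (Jh J)) k
  obtain ⟨e, he⟩ := exists_iso_of_ker_eq (FSch.completionToX _ (FSch.idealSpec (Bh J) (Jh J)) k) t
    ((Scheme.IdealSheafData.ker_subschemeι _).trans ((idealSpec_pow _ _).trans rfl))
  have ht : t ≫ bmap J = Spec.map (CommRingCat.ofHom
      ((Ideal.Quotient.mk (Jh J ^ (k + 1))).comp (algebraMap B (Bh J)))) := by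
    rw [CommRingCat.ofHom_comp, Spec.map_comp]
  haveI : IsClosedImmersion (t ≫ bmap J) := by
    rw [ht]; exact IsClosedImmersion.spec_of_surjective _ (quot_surjective J (k + 1))
  constructor
  · rw [← he, Category.assoc]
    infer_instance
  · rw [← he, Category.assoc, Scheme.Hom.ker_comp_of_isIso, ht, ker_specMap _ (quot_surjective J (k + 1)),
      quot_ker, idealSpec_pow]

variable {X : Scheme.{u}} (f : X ⟶ Spec (CommRingCat.of B))

/-- The base change. -/
abbrev Z : Scheme.{u} := pullback f (bmap J)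

/-- Its structure map. -/
abbrev fh : Z J f ⟶ Spec (CommRingCat.of (Bh J)) := pullback.snd f (bmap J)

theorem isProper_fh [IsProper f] : IsProper (fh J f) := MorphismProperty.pullback_snd (P := @IsProper) f (bmap J) ‹IsProper f›

/-- The ideal on the base change. -/
abbrev 𝓘h : (Z J f).IdealSheafData := (FSch.idealSpec (Bh J) (Jh J)).comap (fh J f)

theorem level_Z (k : ℕ) :
    IsClosedImmersion (FSch.completionToX _ (𝓘h J f) k ≫ pullback.fst f (bmap J)) ∧
      (FSch.completionToX _ (𝓘h J f) k ≫ pullback.fst f (bmap J)).ker = (FSch.idealSpec B J).comap f ^ (k + 1) := by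
  obtain ⟨hc, hk⟩ := level J k
  haveI := hc
  have h := (isPullback_level (fh J f) (isCompl_completion (Jh J) (fh J f)) k).paste_horiz
    (IsPullback.of_hasPullback f (bmap J))
  refine ⟨MorphismProperty.of_isPullback (P := @IsClosedImmersion) h.flip hc, ?_⟩
  rw [Groth.L17.Thick.ker_of_isPullback h, hk, Groth.L17.Thick.comap_pow]

variable {𝔛 : FSch.Sys.{u}} {p : ∀ k, 𝔛.X k ⟶ X} (hA : IsCompl J f 𝔛 p)

/-- The levels are those of the completion of the base change. -/
def lvl (k : ℕ) : 𝔛.X k ≅ (FSch.completionAlong (Z J f) (𝓘h J f)).X k :=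
  haveI := hA.closedImmersion k
  haveI := (level_Z J f k).1
  (exists_iso_of_ker_eq (p k) (FSch.completionToX _ (𝓘h J f) k ≫ pullback.fst f (bmap J))
    ((ker_p f hA k).trans (level_Z J f k).2.symm)).choose

/-- The maps to the base change. -/
def q (k : ℕ) : 𝔛.X k ⟶ Z J f := (lvl J f hA k).hom ≫ FSch.completionToX _ (𝓘h J f) k

theorem q_fst (k : ℕ) : q J f hA k ≫ pullback.fst f (bmap J) = p k := by
  haveI := hA.closedImmersion k
  haveI := (level_Z J f k).1
  rw [q, Category.assoc]
  exact (exists_iso_of_ker_eq (p k) (FSch.completionToX _ (𝓘h J f) k ≫ pullback.fst f (bmap J))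
    ((ker_p f hA k).trans (level_Z J f k).2.symm)).choose_spec

/-- The levels over the completed base. -/
def qBase (k : ℕ) : 𝔛.X k ⟶
    (FSch.completionAlong (Spec (CommRingCat.of (Bh J))) (FSch.idealSpec (Bh J) (Jh J))).X k :=
  (lvl J f hA k).hom ≫ (toBase (fh J f) (isCompl_completion (Jh J) (fh J f)) : FSch.Hom _ _).app k

theorem q_snd (k : ℕ) : q J f hA k ≫ fh J f = qBase J f hA k ≫ FSch.completionToX _ (FSch.idealSpec (Bh J) (Jh J)) k := by
  rw [q, qBase, Category.assoc, Category.assoc]
  exact congrArg ((lvl J f hA k).hom ≫ ·) (toBase_sq (fh J f) (isCompl_completion (Jh J) (fh J f)) k)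

theorem q_comm (k : ℕ) : 𝔛.ι k ≫ q J f hA (k + 1) = q J f hA k := by
  refine pullback.hom_ext ?_ ?_
  · rw [Category.assoc, q_fst, hA.comm, q_fst]
  · let 𝔜 := FSch.completionAlong (Spec (CommRingCat.of (Bh J))) (FSch.idealSpec (Bh J) (Jh J))
    let r := FSch.completionToX (Spec (CommRingCat.of (Bh J))) (FSch.idealSpec (Bh J) (Jh J))
    haveI := (level J (k + 1)).1
    have hr : 𝔜.ι k ≫ r (k + 1) = r k := FSch.completionToX_comm _ _ k
    have hb : ∀ n, qBase J f hA n ≫ r n ≫ bmap J = p n ≫ f := fun n => by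
      rw [← Category.assoc, ← q_snd, Category.assoc, ← pullback.condition, ← Category.assoc, q_fst]
    have h : 𝔛.ι k ≫ qBase J f hA (k + 1) = qBase J f hA k ≫ 𝔜.ι k := by
      rw [← cancel_mono (r (k + 1) ≫ bmap J)]
      simp only [Category.assoc]
      rw [hb, reassoc_of% hr, hb, ← Category.assoc, hA.comm]
    change (𝔛.ι k ≫ q J f hA (k + 1)) ≫ fh J f = q J f hA k ≫ fh J f
    rw [Category.assoc, q_snd, q_snd, ← Category.assoc, h, Category.assoc]
    exact congrArg (qBase J f hA k ≫ ·) hr

/-- The system is cut out on the base change. -/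
theorem isCompl : IsCompl (Jh J) (fh J f) 𝔛 (q J f hA) := by
  have hci : ∀ k, IsClosedImmersion (q J f hA k) := fun k =>
    haveI := isClosedImmersion_completionToX (𝓘h J f) k
    inferInstanceAs (IsClosedImmersion ((lvl J f hA k).hom ≫ FSch.completionToX _ (𝓘h J f) k))
  refine ⟨q_comm J f hA, hci, fun k W => ?_⟩
  obtain ⟨h1, h2⟩ := cutBy_completionToX (𝓘h J f) k W
  change Function.Surjective (((FSch.completionToX _ (𝓘h J f) k).app W ≫
      (lvl J f hA k).hom.app (FSch.completionToX _ (𝓘h J f) k ⁻¹ᵁ (W : (Z J f).Opens))).hom) ∧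
    RingHom.ker (((FSch.completionToX _ (𝓘h J f) k).app W ≫
      (lvl J f hA k).hom.app (FSch.completionToX _ (𝓘h J f) k ⁻¹ᵁ (W : (Z J f).Opens))).hom) = _
  have hb : Function.Bijective ((lvl J f hA k).hom.app (FSch.completionToX _ (𝓘h J f) k ⁻¹ᵁ (W : (Z J f).Opens))).hom :=
    ConcreteCategory.bijective_of_isIso _
  refine ⟨hb.2.comp h1, ?_⟩
  rw [← h2]
  ext x
  simp only [RingHom.mem_ker]
  exact ⟨fun hx => hb.1 (hx.trans (map_zero _).symm), fun hx =>
    (congrArg ((lvl J f hA k).hom.app (FSch.completionToX _ (𝓘h J f) k ⁻¹ᵁ (W : (Z J f).Opens))).hom hx).trans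
      (map_zero ((lvl J f hA k).hom.app (FSch.completionToX _ (𝓘h J f) k ⁻¹ᵁ (W : (Z J f).Opens))).hom)⟩

end Groth.L17.ComplExt.BaseCompl
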