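import Groth.Agent.L17.FSheaf.Alg
import Mathlib.RingTheory.Flat.Basic
import Mathlib.RingTheory.Finiteness.Cardinality
import Mathlib.Algebra.Module.FinitePresentation
import Mathlib.Algebra.Module.Injective
import Mathlib.RingTheory.AdicCompletion.Noetherian
import Mathlib.LinearAlgebra.TensorProduct.Tower

/-!
# Base change to a complete ring: finite modules, filtered unions, homomorphisms, injective modules
-/

set_option autoImplicit false
set_option linter.style.haveILetI false
set_option linter.unusedSectionVars false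

universe u

open TensorProduct Submodule

noncomputable section

namespace Groth.L17.ComplExt

variable {R S : Type u} [CommRing R] [CommRing S] [Algebra R S]

section Finite

variable [IsNoetherianRing S] (I : Ideal R) (J : Ideal S) [IsAdicComplete J S]
  {M T : Type u} [AddCommGroup M] [Module R M] [Module.Finite R M]
  [AddCommGroup T] [Module R T] [Module S T] [IsScalarTower R S T] [Module.Finite S T] (g : M →ₗ[R] T)

/-- A finite module whose reductions agree with those of a module over the complete ring is its base change. -/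
theorem isBaseChange_of_levels (hI : I.map (algebraMap R S) ≤ J)
    (hdense : ∀ (s : S) (k : ℕ), ∃ r : R, s - algebraMap R S r ∈ J ^ k)
    (hsurj : ∀ t : T, ∃ m, t - g m ∈ J • (⊤ : Submodule S T))
    (hker : ∀ (m : M) (k : ℕ), g m ∈ J ^ (k + 1) • (⊤ : Submodule S T) → m ∈ I ^ (k + 1) • (⊤ : Submodule R M)) :
    IsBaseChange S g := by
  let L : S ⊗[R] M →ₗ[S] T := g.liftBaseChange S
  refine IsBaseChange.of_equiv (LinearEquiv.ofBijective L ⟨?_, ?_⟩) fun m => ?_
  · refine (injective_iff_map_eq_zero L).2 fun z hz => ?_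
    have key : ∀ k, z ∈ J ^ (k + 1) • (⊤ : Submodule S (S ⊗[R] M)) := by
      intro k
      obtain ⟨m, hm⟩ : ∃ m : M, z - (1 : S) ⊗ₜ[R] m ∈ J ^ (k + 1) • (⊤ : Submodule S (S ⊗[R] M)) := by
        clear hz
        induction z using TensorProduct.induction_on with
        | zero => exact ⟨0, by simp⟩
        | tmul s m =>
          obtain ⟨r, hr⟩ := hdense s (k + 1)
          refine ⟨r • m, ?_⟩
          rw [TensorProduct.tmul_smul, TensorProduct.smul_tmul', ← TensorProduct.sub_tmul, ← Algebra.algebraMap_eq_smul_one,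
            show (s - algebraMap R S r) ⊗ₜ[R] m = (s - algebraMap R S r) • ((1 : S) ⊗ₜ[R] m) by
              rw [TensorProduct.smul_tmul', smul_eq_mul, mul_one]]
          exact smul_mem_smul hr mem_top
        | add x y hx hy =>
          obtain ⟨a, ha⟩ := hx
          obtain ⟨b, hb⟩ := hy
          exact ⟨a + b, by rw [TensorProduct.tmul_add, add_sub_add_comm]; exact add_mem ha hb⟩
      have h1 : g m ∈ J ^ (k + 1) • (⊤ : Submodule S T) := by
        have h2 := Submodule.mem_map_of_mem (f := L) hm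
        rw [Submodule.map_smul'', map_sub, hz, zero_sub, LinearMap.liftBaseChange_tmul, one_smul, neg_mem_iff] at h2
        exact SetLike.le_def.1 (Submodule.smul_mono le_rfl le_top) h2
      have h3 : (1 : S) ⊗ₜ[R] m ∈ J ^ (k + 1) • (⊤ : Submodule S (S ⊗[R] M)) := by
        refine smul_induction_on (hker m k h1) (fun a ha x _ => ?_) fun x y hx hy => ?_
        · rw [TensorProduct.tmul_smul, ← algebraMap_smul S a]
          exact smul_mem_smul (Ideal.pow_right_mono hI _ (by rw [← Ideal.map_pow]; exact Ideal.mem_map_of_mem _ ha)) mem_top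
        · rw [TensorProduct.tmul_add]
          exact add_mem hx hy
      simpa using add_mem hm h3
    haveI : IsHausdorff J (S ⊗[R] M) := IsHausdorff.of_le_jacobson J (S ⊗[R] M) (IsAdicComplete.le_jacobson_bot J)
    refine IsHausdorff.haus' (I := J) z fun k => ?_
    rw [SModEq.zero]
    exact smul_mono_left (Ideal.pow_le_pow_right k.le_succ) (key k)
  · have h : LinearMap.range L = ⊤ := Groth.L17.FSheaf.eq_top_of_sup J _ (eq_top_iff.2 fun t _ => by
      obtain ⟨m, hm⟩ := hsurj t
      exact mem_sup.2 ⟨g m, ⟨(1 : S) ⊗ₜ m, by simp [L]⟩, _, hm, by abel⟩)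
    exact LinearMap.range_eq_top.1 h
  · exact (LinearMap.liftBaseChange_tmul _ _ _ _).trans (one_smul _ _)

end Finite

section Colim

variable {Λ : Type*} {M T : Type u} [AddCommGroup M] [Module R M] [AddCommGroup T] [Module R T] [Module S T]
  [IsScalarTower R S T] (g : M →ₗ[R] T)
  {Mi Ti : Λ → Type u} [∀ i, AddCommGroup (Mi i)] [∀ i, Module R (Mi i)] [∀ i, AddCommGroup (Ti i)]
  [∀ i, Module R (Ti i)] [∀ i, Module S (Ti i)] [∀ i, IsScalarTower R S (Ti i)]
  (gi : ∀ i, Mi i →ₗ[R] Ti i) (φ : ∀ i, Mi i →ₗ[R] M) (ψ : ∀ i, Ti i →ₗ[S] T)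
  {H : Λ → Λ → Type*} (a : ∀ {i j}, H i j → (Mi i →ₗ[R] Mi j)) (b : ∀ {i j}, H i j → (Ti i →ₗ[S] Ti j))

/-- Base change passes to filtered colimits. -/
theorem isBaseChange_colim [Nonempty Λ] (hdir : ∀ i j, ∃ k, Nonempty (H i k) ∧ Nonempty (H j k))
    (hsq : ∀ i m, ψ i (gi i m) = g (φ i m))
    (hφ : ∀ {i j} (h : H i j) (m : Mi i), φ j (a h m) = φ i m)
    (hab : ∀ {i j} (h : H i j) (m : Mi i), gi j (a h m) = b h (gi i m))
    (hM : ∀ m, ∃ i m', φ i m' = m) (hT : ∀ t, ∃ i t', ψ i t' = t)
    (hT0 : ∀ i t, ψ i t = 0 → ∃ (j : Λ) (h : H i j), b h t = 0)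
    (hbc : ∀ i, IsBaseChange S (gi i)) : IsBaseChange S g := by
  let L : S ⊗[R] M →ₗ[S] T := g.liftBaseChange S
  have hL : ∀ i (z : S ⊗[R] Mi i), L ((φ i).baseChange S z) = ψ i ((gi i).liftBaseChange S z) := fun i z => by
    induction z using TensorProduct.induction_on with
    | zero => simp
    | tmul s m => simp [L, hsq]
    | add x y hx hy => simp only [map_add, hx, hy]
  have hlift : ∀ i, Function.Bijective ((gi i).liftBaseChange S) := fun i => by
    have : (gi i).liftBaseChange S = (hbc i).equiv.toLinearMap := TensorProduct.AlgebraTensorModule.ext fun s m => by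
      simp [IsBaseChange.equiv_tmul]
    rw [this]
    exact (hbc i).equiv.bijective
  have hcomp : ∀ {i j} (h : H i j) (z : S ⊗[R] Mi i),
      (φ j).baseChange S ((a h).baseChange S z) = (φ i).baseChange S z := fun h z => by
    induction z using TensorProduct.induction_on with
    | zero => simp
    | tmul s m => simp [hφ]
    | add x y hx hy => simp only [map_add, hx, hy]
  have hcomp' : ∀ {i j} (h : H i j) (z : S ⊗[R] Mi i),
      (gi j).liftBaseChange S ((a h).baseChange S z) = b h ((gi i).liftBaseChange S z) := fun h z => by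
    induction z using TensorProduct.induction_on with
    | zero => simp
    | tmul s m => simp [hab]
    | add x y hx hy => simp only [map_add, hx, hy]
  have hsurjZ : ∀ z : S ⊗[R] M, ∃ i z', (φ i).baseChange S z' = z := fun z => by
    induction z using TensorProduct.induction_on with
    | zero => exact ⟨Classical.arbitrary Λ, 0, by simp⟩
    | tmul s m =>
      obtain ⟨i, m', rfl⟩ := hM m
      exact ⟨i, s ⊗ₜ m', by simp⟩
    | add x y hx hy =>
      obtain ⟨i, x', rfl⟩ := hx
      obtain ⟨j, y', rfl⟩ := hy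
      obtain ⟨k, ⟨h⟩, ⟨h'⟩⟩ := hdir i j
      exact ⟨k, (a h).baseChange S x' + (a h').baseChange S y', by rw [map_add, hcomp, hcomp]⟩
  refine IsBaseChange.of_equiv (LinearEquiv.ofBijective L ⟨(injective_iff_map_eq_zero L).2 fun z hz => ?_, fun t => ?_⟩)
    fun m => (LinearMap.liftBaseChange_tmul _ _ _ _).trans (one_smul _ _)
  · obtain ⟨i, z', rfl⟩ := hsurjZ z
    rw [hL] at hz
    obtain ⟨j, h, hj⟩ := hT0 i _ hz
    rw [← hcomp', ← map_zero ((gi j).liftBaseChange S)] at hj
    rw [← hcomp h z', (hlift j).1 hj, map_zero]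
  · obtain ⟨i, t', rfl⟩ := hT t
    obtain ⟨z, rfl⟩ := (hlift i).2 t'
    exact ⟨_, hL i z⟩

end Colim

section Hom

variable [Module.Flat R S] {N I T : Type u} [AddCommGroup N] [Module R N] [AddCommGroup I] [Module R I]
  [AddCommGroup T] [Module R T] [Module S T] [IsScalarTower R S T] {g : I →ₗ[R] T}

/-- Homomorphisms out of a finitely presented module commute with flat base change. -/
theorem isBaseChange_comp (hg : IsBaseChange S g) [Module.FinitePresentation R N] :
    IsBaseChange S (LinearMap.compRight R (M := N) g) := by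
  let e : (N →ₗ[R] T) ≃ₗ[S] (S ⊗[R] N →ₗ[S] T) := LinearMap.liftBaseChangeEquiv S
  let c : (S ⊗[R] N →ₗ[S] S ⊗[R] I) ≃ₗ[S] (S ⊗[R] N →ₗ[S] T) := LinearEquiv.congrRight hg.equiv
  refine IsBaseChange.of_equiv ((Module.FinitePresentation.isBaseChange_map R N I S).equiv ≪≫ₗ c ≪≫ₗ e.symm) fun f => ?_
  refine LinearMap.ext fun x => ?_
  simp [e, c]
  show hg.equiv (LinearMap.baseChange S f ((1 : S) ⊗ₜ[R] x)) = g (f x)
  rw [LinearMap.baseChange_tmul, IsBaseChange.equiv_tmul, one_smul]

/-- A flat base change of an injective module over a Noetherian ring is injective. -/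
theorem injective_of_isBaseChange [IsNoetherianRing R] (hI : Module.Injective R I) (hg : IsBaseChange S g) :
    Module.Injective R T := by
  refine Module.Baer.injective fun 𝔞 φ => ?_
  haveI : Module.FinitePresentation R 𝔞 := Module.finitePresentation_of_finite R 𝔞
  suffices h : ∀ ψ : 𝔞 →ₗ[R] T, ∃ ψ' : R →ₗ[R] T, ∀ (x : R) (hx : x ∈ 𝔞), ψ' x = ψ ⟨x, hx⟩ from h φ
  intro ψ
  induction ψ using (isBaseChange_comp (N := 𝔞) hg).inductionOn with
  | zero => exact ⟨0, fun x hx => rfl⟩
  | tmul f =>
    obtain ⟨f', hf'⟩ := (Module.Baer.of_injective hI) 𝔞 f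
    exact ⟨g.comp f', fun x hx => congrArg g (hf' x hx)⟩
  | smul s ψ h =>
    obtain ⟨ψ', h⟩ := h
    exact ⟨s • ψ', fun x hx => congrArg (s • ·) (h x hx)⟩
  | add ψ₁ ψ₂ h₁ h₂ =>
    obtain ⟨ψ₁', h₁⟩ := h₁
    obtain ⟨ψ₂', h₂⟩ := h₂
    exact ⟨ψ₁' + ψ₂', fun x hx => congrArg₂ (· + ·) (h₁ x hx) (h₂ x hx)⟩

end Hom

end Groth.L17.ComplExt
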