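import Groth.Agent.L17.ComplExt.Alg
import Groth.Agent.L17.FSheaf.CompPush
import Groth.Agent.L17.FSheaf.CompPull
import Groth.Agent.L17.FSheaf.ComplFlat
import Groth.Agent.L20.ModStalk

/-!
# Sections of the completion over affine opens: the coherent case
-/

set_option autoImplicit false
set_option linter.style.haveILetI false
set_option linter.unusedSectionVars false
set_option backward.isDefEq.respectTransparency false
set_option backward.isDefEq.respectTransparency.types false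

universe u

open CategoryTheory CategoryTheory.Limits AlgebraicGeometry TopologicalSpace Opposite TensorProduct

noncomputable section

namespace Groth.L17.ComplExt

open Groth.L17.FSheaf

variable {X : Scheme.{u}} (𝔛 : FSch.Sys.{u}) (h : 𝔛.IsFormal) (p : ∀ k, 𝔛.X k ⟶ X)
  (hp : ∀ k, 𝔛.ι k ≫ p (k + 1) = p k)

/-- Sections of the completion over the open over an open of the scheme, as a module over its functions. -/
abbrev CS (G : X.Modules) (W : X.Opens) : Type u := SF 𝔛 h ((kap 𝔛 h p hp).pull.obj G) (pU 𝔛 p W)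

/-- The functions of the completion, as an algebra over the functions of the scheme. -/
@[reducible] def algShp (W : X.Opens) : Algebra Γ(X, W) (O 𝔛 h (pU 𝔛 p W)) := (shp 𝔛 h p hp W).toAlgebra

/-- The module structure along the functions of the scheme. -/
@[reducible] def modShp (W : X.Opens) (T : Type u) [AddCommGroup T] [Module (O 𝔛 h (pU 𝔛 p W)) T] :
    Module Γ(X, W) T :=
  Module.compHom T (shp 𝔛 h p hp W)

/-- The completion of a section. -/
def unitSec (G : X.Modules) (W : X.Opens) :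
    letI := modShp 𝔛 h p hp W (CS 𝔛 h p hp G W)
    Γ(G, W) →ₗ[Γ(X, W)] CS 𝔛 h p hp G W :=
  letI := modShp 𝔛 h p hp W (CS 𝔛 h p hp G W)
  { toFun := fun m => (((kap 𝔛 h p hp).adj.unit.app G).val.app (op W)).hom m
    map_add' := fun a b => map_add (((kap 𝔛 h p hp).adj.unit.app G).val.app (op W)).hom a b
    map_smul' := fun r a => map_smul (((kap 𝔛 h p hp).adj.unit.app G).val.app (op W)).hom r a }

/-- The sections of the completion over an affine open are the base change. -/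
def IsBCAt (G : X.Modules) (W : X.Opens) : Prop :=
  letI := algShp 𝔛 h p hp W
  letI := modShp 𝔛 h p hp W (CS 𝔛 h p hp G W)
  haveI : IsScalarTower Γ(X, W) (O 𝔛 h (pU 𝔛 p W)) (CS 𝔛 h p hp G W) := IsScalarTower.of_algebraMap_smul fun _ _ => rfl
  IsBaseChange (O 𝔛 h (pU 𝔛 p W)) (unitSec 𝔛 h p hp G W)

variable {𝔛} {p}

/-- Sections of the completion of a coherent module are the base change. -/
theorem isBCAt_coh (hX : 𝔛.IsLocNoethFormal) [IsLocallyNoetherian X] [IsClosedImmersion (p 0)]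
    {𝓘 : X.IdealSheafData} (hcut : CutBy 𝔛 p 𝓘) {G : X.Modules} (hG : Coh.IsCoh G) {W : X.Opens}
    (hW : IsAffineOpen W) : IsBCAt 𝔛 hX.1 p hp G W := by
  haveI : ∀ k, IsLocallyNoetherian (𝔛.X k) := hX.2.2
  haveI : Coh.IsQCoh G := hG.1
  obtain ⟨e, he⟩ := exists_pull_iso_pullSys 𝔛 p hp G hX hG
  let U := pU 𝔛 p W
  have hU : IsAffineOpen U := isAffineOpen_pU 𝔛 p hW
  let S := O 𝔛 hX.1 U
  let R := Γ(X, W)
  letI : Algebra R S := algShp 𝔛 hX.1 p hp W
  letI := modShp 𝔛 hX.1 p hp W (CS 𝔛 hX.1 p hp G W)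
  let T := RM 𝔛 hX.1 (pullSys 𝔛 p hp G) U
  letI : Module R T := Module.compHom T (shp 𝔛 hX.1 p hp W)
  haveI : IsScalarTower R S T := IsScalarTower.of_algebraMap_smul fun _ _ => rfl
  haveI : IsScalarTower R S (CS 𝔛 hX.1 p hp G W) := IsScalarTower.of_algebraMap_smul fun _ _ => rfl
  haveI : IsNoetherianRing S := (O_spec 𝔛 hX hU).1
  haveI : IsAdicComplete (J 𝔛 hX.1 U) S := (O_spec 𝔛 hX hU).2.1
  have hker := (O_spec 𝔛 hX hU).2.2
  obtain ⟨hfinT, hqM⟩ := RM_spec 𝔛 (pullSys 𝔛 p hp G) hX (isCoh_pullSys 𝔛 p hp G hG) hU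
  haveI : Module.Finite S T := hfinT
  haveI : Module.Finite R Γ(G, W) := Groth.L20.ModStalk.finite_sections _ hG hW
  let einv : T ≃ₗ[S] CS 𝔛 hX.1 p hp G W :=
    { (e.inv.val.app (op U)).hom with
      invFun := (e.hom.val.app (op U)).hom
      left_inv := fun x => LinearMap.congr_fun (congrArg (fun t => (SheafOfModules.Hom.val t).app (op U) |>.hom) e.inv_hom_id) x
      right_inv := fun x => LinearMap.congr_fun (congrArg (fun t => (SheafOfModules.Hom.val t).app (op U) |>.hom) e.hom_inv_id) x }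
  let g : Γ(G, W) →ₗ[R] T := (einv.symm.toLinearMap.restrictScalars R).comp (unitSec 𝔛 hX.1 p hp G W)
  have hUeq : ∀ k, 𝔛.lvU hX.1 k U = p k ⁻¹ᵁ W := fun k => (FSch.lvU_p 𝔛 hX.1 p hp k W).symm
  have hI : (𝓘.ideal ⟨W, hW⟩).map (algebraMap R S) ≤ J 𝔛 hX.1 U := Ideal.map_le_iff_le_comap.2 fun r hr => by
    rw [Ideal.mem_comap, RingHom.mem_ker]
    refine (pR_shp 𝔛 hX.1 p hp 0 W r).trans ?_
    rw [← RingHom.mem_ker, ker_appLE (p 0) (hUeq 0), (hcut 0 ⟨W, hW⟩).2, zero_add, pow_one]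
    exact hr
  have hdense : ∀ (s : S) (k : ℕ), ∃ r : R, s - algebraMap R S r ∈ J 𝔛 hX.1 U ^ k := fun s k => by
    obtain ⟨r, hr⟩ := appLE_surjective_of_eq (p k) (hUeq k) (hcut k ⟨W, hW⟩).1 (pR 𝔛 hX.1 k U s)
    refine ⟨r, Ideal.pow_le_pow_right k.le_succ ?_⟩
    rw [← hker k, RingHom.mem_ker, map_sub, sub_eq_zero]
    exact ((pR_shp 𝔛 hX.1 p hp k W r).trans hr).symm
  have hq : ∀ (k : ℕ) (m : Γ(G, W)), qM 𝔛 hX.1 (pullSys 𝔛 p hp G) k U (g m) = pW 𝔛 hX.1 p hp G k W m :=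
    fun k m => qM_eta 𝔛 hX.1 p hp G e he k W m
  have hbc : IsBaseChange S g := by
    refine isBaseChange_of_levels (𝓘.ideal ⟨W, hW⟩) (J 𝔛 hX.1 U) g hI hdense (fun t => ?_) fun m k hm => ?_
    · obtain ⟨m, hm⟩ := (pW_spec 𝔛 hX.1 p hp G hcut hW 0).1 (qM 𝔛 hX.1 (pullSys 𝔛 p hp G) 0 U t)
      refine ⟨m, ?_⟩
      have h0 := ((hqM 0).2 (t - g m)).1 (by rw [map_sub, hq, hm, sub_self])
      rwa [zero_add, pow_one] at h0
    · have h0 := ((hqM k).2 _).2 hm
      rw [hq] at h0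
      exact ((pW_spec 𝔛 hX.1 p hp G hcut hW k).2 m).1 h0
  refine IsBaseChange.of_equiv (hbc.equiv ≪≫ₗ einv) fun m => ?_
  show einv (hbc.equiv ((1 : S) ⊗ₜ[R] m)) = _
  rw [IsBaseChange.equiv_tmul, one_smul]
  exact einv.apply_symm_apply _

end Groth.L17.ComplExt
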