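import Groth.Agent.L17.ComplExt.DerCompl

/-!
# Objects with coherent cohomology under completion
-/

set_option autoImplicit false
set_option linter.style.haveILetI false
set_option linter.unusedSectionVars false
set_option backward.defeqAttrib.useBackward true
set_option backward.isDefEq.respectTransparency false
set_option backward.isDefEq.respectTransparency.types false

universe u

open CategoryTheory CategoryTheory.Limits AlgebraicGeometry TopologicalSpace

attribute [local instance] HasDerivedCategory.standard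

noncomputable section

namespace Groth.L17.ComplExt

open Groth.L10 Groth.L17.FSheaf Groth.L09.IndCoh

variable {A : Type u} [CommRing A] [IsNoetherianRing A] {I : Ideal A} [IsAdicComplete I A]
  {X : Scheme.{u}} (f : X ⟶ Spec (CommRingCat.of A)) [IsProper f] {𝔛 : FSch.Sys.{u}} {p : ∀ k, 𝔛.X k ⟶ X}
  (hA : IsCompl I f 𝔛 p) (hX : 𝔛.IsLocNoethFormal)

/-- A quasi-coherent module with coherent completion is coherent. -/
theorem isCoh_of_isCohF_pull [IsLocallyNoetherian X] {M : X.Modules} (hM : Coh.IsQCoh M)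
    (hc : FSch.IsCohF 𝔛 hX.1 ((kap 𝔛 hX.1 p hA.comm).pull.obj M)) : Coh.IsCoh M := by
  letI : X.Over (Spec (CommRingCat.of A)) := ⟨f⟩
  haveI : IsProper (X ↘ Spec (CommRingCat.of A)) := ‹IsProper f›
  let 𝓘 := (FSch.idealSpec A I).comap f
  have hp := hA.comm
  have hcl := hA.closedImmersion
  have hcut := cutOver_of_cutBy I f 𝓘 rfl 𝔛 p hA.cutBy (idealSpec_ideal_top I)
  haveI := hcl 0
  haveI : CompactSpace X := QuasiCompact.compactSpace_of_compactSpace f
  let κ := kap 𝔛 hX.1 p hp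
  haveI : IsProper (𝟙 X ≫ f) := by rw [Category.id_comp]; infer_instance
  obtain ⟨G, hG, -, ⟨e⟩⟩ := exists_algebraization I f 𝔛 hX p hp hcl hcut _ hc
    ⟨Set.univ, by simpa using Groth.L17.ProperOver.isProperOver_range f (𝟙 X), fun x hx => absurd trivial hx⟩
  obtain ⟨e', -⟩ := exists_pull_iso_pullSys 𝔛 p hp G hX hG
  let θ : κ.pull.obj G ≅ κ.pull.obj M := e' ≪≫ e.symm
  have hff := (indCoh f hA hX).1
  obtain ⟨a, ha⟩ := (hff G M hG.1 hM).2 θ.hom
  obtain ⟨b, hb⟩ := (hff M G hM hG.1).2 θ.inv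
  have hab : a ≫ b = 𝟙 (show ModSite.Mod X.sheaf from G) := (hff G G hG.1 hG.1).1 (by
    show κ.pull.map (a ≫ b) = κ.pull.map (𝟙 _)
    rw [Functor.map_comp, show κ.pull.map a = θ.hom from ha, show κ.pull.map b = θ.inv from hb, Iso.hom_inv_id,
      CategoryTheory.Functor.map_id])
  have hba : b ≫ a = 𝟙 (show ModSite.Mod X.sheaf from M) := (hff M M hM hM).1 (by
    show κ.pull.map (b ≫ a) = κ.pull.map (𝟙 _)
    rw [Functor.map_comp, show κ.pull.map a = θ.hom from ha, show κ.pull.map b = θ.inv from hb, Iso.inv_hom_id,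
      CategoryTheory.Functor.map_id])
  exact Groth.L16.CohSupport.isCoh_of_iso (show G ≅ M from ⟨a, b, hab, hba⟩) hG

variable [PreservesFiniteLimits (kap 𝔛 hX.1 p hA.comm).pull]

/-- Objects with coherent cohomology are completions of such objects. -/
theorem exists_pullD_iso_coh {M : DerivedCategory (FSch.ModF 𝔛 hX.1)}
    (hM : ∀ i : ℤ, FSch.IsCohF 𝔛 hX.1 (SiteCmp.HMod M i)) :
    ∃ E : DerivedCategory (ModSite.Mod X.sheaf), (∀ i : ℤ, Coh.IsCoh (X := X) (SiteCmp.HMod E i)) ∧
      Nonempty ((SiteCmp.pullD (kap 𝔛 hX.1 p hA.comm)).obj E ≅ M) := by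
  haveI : IsLocallyNoetherian X := LocallyOfFiniteType.isLocallyNoetherian f
  let κ := kap 𝔛 hX.1 p hA.comm
  haveI : κ.pull.Additive := SiteCmp.additive_pull κ
  haveI : PreservesFiniteColimits κ.pull := SiteCmp.preservesFiniteColimits_pull κ
  obtain ⟨E, hE, ⟨e⟩⟩ := exists_pullD_iso f hA hX fun i => Groth.L17.IndRpush.ind_coh hX (hM i)
  refine ⟨E, fun i => isCoh_of_isCohF_pull f hA hX (hE i) ?_, ⟨e⟩⟩
  obtain ⟨eh⟩ := WSerreLib.homology_map_iso κ.pull E i
  exact Groth.L09.IndCoh.isCohF_of_iso hX (hM i) (((DerivedCategory.homologyFunctor _ i).mapIso e).symm ≪≫ eh)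

end Groth.L17.ComplExt
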