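import Groth.Agent.L17.ComplExt.ExtVanish
import Groth.Agent.L29.Sib.InjSub
import Groth.Agent.L29.DCoh.QCohOps
import Mathlib.Algebra.Homology.DerivedCategory.Ext.MapBijective

/-!
# The completion is bijective on extensions of quasi-coherent modules
-/

set_option autoImplicit false
set_option linter.style.haveILetI false
set_option linter.unusedSectionVars false
set_option backward.isDefEq.respectTransparency false
set_option backward.isDefEq.respectTransparency.types false
set_option maxHeartbeats 400000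

universe w v u

open CategoryTheory CategoryTheory.Limits CategoryTheory.Abelian AlgebraicGeometry TopologicalSpace Opposite

noncomputable section

namespace Groth.L17.ComplExt

/-- Extensions out of a coproduct vanish when those out of the terms do. -/
theorem subsingleton_ext_sigma {C : Type u} [Category.{v} C] [Abelian C] [HasExt.{w} C] [EnoughInjectives C]
    {ι : Type*} (Z : ι → C) [HasCoproduct Z] : ∀ (n : ℕ) (J : C), (∀ i, Subsingleton (Ext.{w} (Z i) J (n + 1))) →
      Subsingleton (Ext.{w} (∐ Z) J (n + 1)) := by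
  intro n
  induction n with
  | zero =>
    intro J hJ
    let P : InjectivePresentation J := Classical.arbitrary _
    let S := ShortComplex.mk P.f (cokernel.π P.f) (cokernel.condition P.f)
    have hS : S.ShortExact := { exact := ShortComplex.exact_cokernel P.f }
    haveI : Injective S.X₂ := P.injective
    refine subsingleton_of_forall_eq 0 fun x => ?_
    obtain ⟨y, rfl⟩ := Ext.covariant_sequence_exact₁ _ hS x (Ext.eq_zero_of_injective _) (rfl : 0 + 1 = 0 + 1)
    obtain ⟨h, rfl⟩ := (Ext.mk₀_bijective _ _).2 y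
    have hl : ∀ i, ∃ g : Z i ⟶ S.X₂, g ≫ S.g = Sigma.ι Z i ≫ h := fun i => by
      obtain ⟨t, ht⟩ := Ext.covariant_sequence_exact₃ (Z i) hS (Ext.mk₀ (Sigma.ι Z i ≫ h))
        (rfl : 0 + 1 = 0 + 1) (@Subsingleton.elim _ (hJ i) _ _)
      obtain ⟨g, rfl⟩ := (Ext.mk₀_bijective _ _).2 t
      rw [Ext.mk₀_comp_mk₀] at ht
      exact ⟨g, (Ext.mk₀_bijective _ _).1 ht⟩
    choose g hg using hl
    rw [show h = Sigma.desc g ≫ S.g from Sigma.hom_ext _ _ fun i => by rw [Sigma.ι_desc_assoc, hg],
      ← Ext.mk₀_comp_mk₀, Ext.comp_assoc_of_second_deg_zero, hS.comp_extClass, Ext.comp_zero]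
  | succ n ih =>
    intro J hJ
    let P : InjectivePresentation J := Classical.arbitrary _
    let S := ShortComplex.mk P.f (cokernel.π P.f) (cokernel.condition P.f)
    have hS : S.ShortExact := { exact := ShortComplex.exact_cokernel P.f }
    haveI : Injective S.X₂ := P.injective
    have hC : ∀ i, Subsingleton (Ext.{w} (Z i) S.X₃ (n + 1)) := fun i => subsingleton_of_forall_eq 0 fun x => by
      obtain ⟨y, hy⟩ := Ext.covariant_sequence_exact₃ (Z i) hS x (rfl : n + 1 + 1 = n + 1 + 1)
        (@Subsingleton.elim _ (hJ i) _ _)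
      rw [← hy, Ext.eq_zero_of_injective y, Ext.zero_comp]
    refine subsingleton_of_forall_eq 0 fun x => ?_
    obtain ⟨y, rfl⟩ := Ext.covariant_sequence_exact₁ _ hS x (Ext.eq_zero_of_injective _)
      (rfl : n + 1 + 1 = n + 1 + 1)
    rw [@Subsingleton.elim _ (ih S.X₃ hC) y 0, Ext.zero_comp]

open Groth.L17.FSheaf

attribute [local instance] HasDerivedCategory.standard

variable {A : Type u} [CommRing A] [IsNoetherianRing A] {I : Ideal A} [IsAdicComplete I A]
  {X : Scheme.{u}} (f : X ⟶ Spec (CommRingCat.of A)) [IsProper f] {𝔛 : FSch.Sys.{u}} {p : ∀ k, 𝔛.X k ⟶ X}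
  (hA : IsCompl I f 𝔛 p) (hX : 𝔛.IsLocNoethFormal)
  [HasExt.{u} (ModSite.Mod X.sheaf)] [HasExt.{u} (FSch.ModF 𝔛 hX.1)]

/-- The completion is bijective on maps of quasi-coherent modules. -/
theorem bijective_map_completion (G H : ModSite.Mod X.sheaf) (hG : Coh.IsQCoh (X := X) G) (hH : Coh.IsQCoh (X := X) H) :
    Function.Bijective fun φ : G ⟶ H => (kap 𝔛 hX.1 p hA.comm).pull.map φ :=
  (indCoh f hA hX).1 G H hG hH

/-- Completed injective modules have no higher extensions by completed quasi-coherent modules. -/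
theorem subsingleton_ext_qcoh (n : ℕ) : ∀ (F J : ModSite.Mod X.sheaf), Coh.IsQCoh (X := X) F →
    Coh.IsQCoh (X := X) J → Injective J →
    Subsingleton (Ext.{u} ((kap 𝔛 hX.1 p hA.comm).pull.obj F)
      ((kap 𝔛 hX.1 p hA.comm).pull.obj J) (n + 1)) := by
  haveI : IsLocallyNoetherian X := LocallyOfFiniteType.isLocallyNoetherian f
  haveI : CompactSpace X := QuasiCompact.compactSpace_of_compactSpace f
  haveI : AlgebraicGeometry.IsNoetherian X := {}
  haveI : IsGrothendieckAbelian.{u} (ModSite.Mod X.sheaf) := Groth.L10.shMod_isGrothendieckAbelian _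
  haveI : IsGrothendieckAbelian.{u} (FSch.ModF 𝔛 hX.1) := Groth.L10.shMod_isGrothendieckAbelian _
  haveI := hA.closedImmersion 0
  let κ := kap 𝔛 hX.1 p hA.comm
  haveI : PreservesFiniteLimits κ.pull :=
    isFlat_kap _ hX.1 _ hA.comm hA.cutBy
  haveI : PreservesColimitsOfSize.{u, u} κ.pull := κ.adj.leftAdjoint_preservesColimits
  haveI : PreservesFiniteColimits κ.pull := inferInstance
  haveI : κ.pull.Additive := κ.adj.left_adjoint_additive
  induction n with
  | zero =>
    intro F J hF hJ hJi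
    obtain ⟨Λ, _, _, pres, hpres⟩ := (Groth.L09.IndCoh.qcoh_iff_ind X F).1 hF
    let Z : Λ → ModSite.Mod X.sheaf := fun j => pres.diag.obj j
    let π : ∐ Z ⟶ F := Sigma.desc fun j => pres.ι.app j
    haveI : Epi π := ⟨fun a b hab => pres.isColimit.hom_ext fun j => by
      simpa [π, Z] using congrArg (Sigma.ι Z j ≫ ·) hab⟩
    have hZ : Coh.IsQCoh (X := X) (∐ Z) :=
      Groth.L09.IndCoh.isQCoh_of_colimit (X := X) (Discrete.functor Z) _ (colimit.isColimit _)
        fun j => (hpres j.as).1
    let S := ShortComplex.mk (kernel.ι π) π (kernel.condition π)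
    have hS : S.ShortExact := { exact := ShortComplex.exact_kernel π }
    have hK : Coh.IsQCoh (X := X) S.X₁ := Groth.L29.DC.isQCoh_kernel' (X := X) π hZ hF
    haveI : Subsingleton (Ext.{u} (κ.pull.obj (∐ Z)) (κ.pull.obj J) (0 + 1)) := by
      haveI := subsingleton_ext_sigma.{u} (fun j => κ.pull.obj (Z j)) 0 (κ.pull.obj J)
        fun j => subsingleton_ext_completion f hA hX (hpres j) J hJ 0
      exact subsingleton_of_forall_eq 0 fun x => by
        have h0 : (Ext.mk₀.{u} (PreservesCoproduct.iso κ.pull Z).inv).comp x (zero_add (0 + 1)) = 0 :=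
          Subsingleton.elim _ _
        have h1 := congrArg (fun t => (Ext.mk₀.{u} (PreservesCoproduct.iso κ.pull Z).hom).comp t (zero_add (0 + 1))) h0
        simpa only [Ext.mk₀_comp_mk₀_assoc, Iso.hom_inv_id, Ext.mk₀_id_comp, Ext.comp_zero] using h1
    refine subsingleton_of_forall_eq 0 fun x => ?_
    obtain ⟨y, hy⟩ := Ext.contravariant_sequence_exact₃ (hS.map_of_exact κ.pull) (κ.pull.obj J) x
      (@Subsingleton.elim (Ext.{u} (κ.pull.obj (∐ Z)) (κ.pull.obj J) (0 + 1)) inferInstance _ _)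
      (rfl : 1 + 0 = 0 + 1)
    obtain ⟨h, rfl⟩ := (Ext.mk₀_bijective _ _).2 y
    obtain ⟨g, rfl⟩ := (bijective_map_completion f hA hX S.X₁ J hK hJ).2 h
    haveI := hJi
    obtain ⟨g', rfl⟩ := Injective.factors g (kernel.ι π)
    rw [← hy]
    have e : Ext.mk₀ (κ.pull.map (kernel.ι π ≫ g')) =
        (Ext.mk₀.{u} (S.map κ.pull).f).comp (Ext.mk₀ (κ.pull.map g')) (zero_add 0) := by
      rw [Ext.mk₀_comp_mk₀, κ.pull.map_comp]
      rfl
    exact (congrArg (fun t => ((hS.map_of_exact κ.pull).extClass).comp t (rfl : 1 + 0 = 0 + 1)) e).trans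
      ((Ext.comp_assoc _ _ _ (add_zero 1) (zero_add 0) (by omega)).symm.trans
        ((congrArg (fun t => Ext.comp t (Ext.mk₀ (κ.pull.map g')) (add_zero 1))
          (hS.map_of_exact κ.pull).extClass_comp).trans (Ext.zero_comp _ _ _ _ _)))
  | succ n ih =>
    intro F J hF hJ hJi
    obtain ⟨Λ, _, _, pres, hpres⟩ := (Groth.L09.IndCoh.qcoh_iff_ind X F).1 hF
    let Z : Λ → ModSite.Mod X.sheaf := fun j => pres.diag.obj j
    let π : ∐ Z ⟶ F := Sigma.desc fun j => pres.ι.app j
    haveI : Epi π := ⟨fun a b hab => pres.isColimit.hom_ext fun j => by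
      simpa [π, Z] using congrArg (Sigma.ι Z j ≫ ·) hab⟩
    have hZ : Coh.IsQCoh (X := X) (∐ Z) :=
      Groth.L09.IndCoh.isQCoh_of_colimit (X := X) (Discrete.functor Z) _ (colimit.isColimit _)
        fun j => (hpres j.as).1
    let S := ShortComplex.mk (kernel.ι π) π (kernel.condition π)
    have hS : S.ShortExact := { exact := ShortComplex.exact_kernel π }
    have hK : Coh.IsQCoh (X := X) S.X₁ := Groth.L29.DC.isQCoh_kernel' (X := X) π hZ hF
    haveI : Subsingleton (Ext.{u} (κ.pull.obj (∐ Z)) (κ.pull.obj J) (n + 1 + 1)) := by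
      haveI := subsingleton_ext_sigma.{u} (fun j => κ.pull.obj (Z j)) (n + 1) (κ.pull.obj J)
        fun j => subsingleton_ext_completion f hA hX (hpres j) J hJ (n + 1)
      exact subsingleton_of_forall_eq 0 fun x => by
        have h0 : (Ext.mk₀.{u} (PreservesCoproduct.iso κ.pull Z).inv).comp x (zero_add (n + 1 + 1)) = 0 :=
          Subsingleton.elim _ _
        have h1 := congrArg (fun t => (Ext.mk₀.{u} (PreservesCoproduct.iso κ.pull Z).hom).comp t (zero_add (n + 1 + 1))) h0
        simpa only [Ext.mk₀_comp_mk₀_assoc, Iso.hom_inv_id, Ext.mk₀_id_comp, Ext.comp_zero] using h1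
    refine subsingleton_of_forall_eq 0 fun x => ?_
    obtain ⟨y, hy⟩ := Ext.contravariant_sequence_exact₃ (hS.map_of_exact κ.pull) (κ.pull.obj J) x
      (@Subsingleton.elim (Ext.{u} (κ.pull.obj (∐ Z)) (κ.pull.obj J) (n + 1 + 1)) inferInstance _ _)
      (by omega : 1 + (n + 1) = n + 1 + 1)
    rw [← hy, @Subsingleton.elim _ (ih S.X₁ J hK hJ hJi) y 0, Ext.comp_zero]

/-- The completion is bijective on extensions of quasi-coherent modules. -/
theorem bijective_mapExt
    [PreservesFiniteLimits (kap 𝔛 hX.1 p hA.comm).pull]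
    [PreservesFiniteColimits (kap 𝔛 hX.1 p hA.comm).pull]
    [(kap 𝔛 hX.1 p hA.comm).pull.Additive] :
    ∀ (n : ℕ) (F G : ModSite.Mod X.sheaf), Coh.IsQCoh (X := X) F → Coh.IsQCoh (X := X) G →
      Function.Bijective ((kap 𝔛 hX.1 p hA.comm).pull.mapExtAddHom F G n :
        Ext.{u} F G n →+ Ext.{u} _ _ n) := by
  haveI : IsLocallyNoetherian X := LocallyOfFiniteType.isLocallyNoetherian f
  let κ := kap 𝔛 hX.1 p hA.comm
  intro n
  induction n with
  | zero =>
    intro F G hF hG
    have e : (κ.pull.mapExtAddHom F G 0 : Ext.{u} F G 0 → Ext.{u} (κ.pull.obj F) (κ.pull.obj G) 0) =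
        Ext.homEquiv₀.symm ∘ (fun φ : F ⟶ G => κ.pull.map φ) ∘ Ext.homEquiv₀ := by
      funext x
      obtain ⟨g, rfl⟩ := (Ext.mk₀_bijective _ _).2 x
      show (Ext.mk₀ g).mapExactFunctor κ.pull = Ext.mk₀ (κ.pull.map (Ext.homEquiv₀ (Ext.mk₀ g)))
      rw [Ext.mapExactFunctor_mk₀]
      congr 2
      exact (Ext.homEquiv₀.apply_symm_apply g).symm
    rw [e]
    exact Ext.homEquiv₀.symm.bijective.comp ((bijective_map_completion f hA hX F G hF hG).comp Ext.homEquiv₀.bijective)
  | succ n ih =>
    intro F G hF hG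
    haveI : Coh.IsQCoh (X := X) G := hG
    obtain ⟨T, φ, hφ, hT, hTi⟩ := Groth.L29.InjSub.exists_mono_injective (X := X) G
    haveI : Mono (C := ModSite.Mod X.sheaf) φ := hφ
    let S : ShortComplex (ModSite.Mod X.sheaf) := ShortComplex.mk φ (cokernel.π φ) (cokernel.condition φ)
    have hS : S.ShortExact := { exact := ShortComplex.exact_cokernel φ }
    haveI : Injective S.X₂ := hTi
    have hC : Coh.IsQCoh (X := X) S.X₃ := Groth.L29.DC.isQCoh_cokernel' (X := X) φ hG hT
    exact AddMonoidHom.bijective_of_surjective_of_bijective_of_right_exact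
      ((Ext.mk₀ S.g).postcomp F (add_zero n)) (hS.extClass.postcomp F rfl)
      ((Ext.mk₀ (S.map κ.pull).g).postcomp (κ.pull.obj F) (add_zero n))
      ((hS.map_of_exact κ.pull).extClass.postcomp (κ.pull.obj F) rfl)
      (κ.pull.mapExtAddHom F S.X₂ n) (κ.pull.mapExtAddHom F S.X₃ n) (κ.pull.mapExtAddHom F S.X₁ (n + 1))
      (AddMonoidHom.ext fun x => by
        show (x.mapExactFunctor κ.pull).comp (Ext.mk₀ (S.map κ.pull).g) (add_zero n) =
          (x.comp (Ext.mk₀ S.g) (add_zero n)).mapExactFunctor κ.pull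
        rw [Ext.mapExactFunctor_comp, Ext.mapExactFunctor_mk₀]
        rfl)
      (AddMonoidHom.ext fun x => by
        show (x.mapExactFunctor κ.pull).comp (hS.map_of_exact κ.pull).extClass rfl =
          (x.comp hS.extClass rfl).mapExactFunctor κ.pull
        rw [Ext.mapExactFunctor_comp, Ext.mapExactFunctor_extClass])
      ((ShortComplex.ab_exact_iff_function_exact _).mp (Ext.covariant_sequence_exact₃' F hS n (n + 1) rfl))
      ((ShortComplex.ab_exact_iff_function_exact _).mp
        (Ext.covariant_sequence_exact₃' (κ.pull.obj F) (hS.map_of_exact κ.pull) n (n + 1) rfl))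
      (ih F S.X₂ hF hT).surjective (ih F S.X₃ hF hC)
      (fun x₁ => Ext.covariant_sequence_exact₁ _ hS x₁ (Ext.eq_zero_of_injective _) rfl)
      (fun y₁ => Ext.covariant_sequence_exact₁ _ (hS.map_of_exact κ.pull) y₁
        (@Subsingleton.elim _ (subsingleton_ext_qcoh f hA hX n F S.X₂ hF hT hTi) _ _) rfl)

end Groth.L17.ComplExt
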