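import Groth.Agent.L17.ComplExt.StableQC
import Groth.Agent.L17.ComplExt.ExtBij
import Groth.Agent.L17.IndRpush.Bound
import Groth.Agent.L17.IndRpush.WeakSerre
import Groth.Agent.L29.DCoh.Gen.PerfBuilt
import Groth.Agent.L29.DCoh.Cpt.Range
import Groth.Agent.L29.BC.Localizing
import Groth.Agent.L29.K.CohSupp
import Groth.Prelude.Def_SiteCmp

/-!
# The completion on derived categories of modules with quasi-coherent cohomology
-/

set_option autoImplicit false
set_option linter.style.haveILetI false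
set_option linter.unusedSectionVars false
set_option backward.defeqAttrib.useBackward true
set_option backward.isDefEq.respectTransparency false
set_option backward.isDefEq.respectTransparency.types false
set_option maxHeartbeats 400000

universe u

open CategoryTheory CategoryTheory.Limits CategoryTheory.Pretriangulated CategoryTheory.Abelian AlgebraicGeometry
  TopologicalSpace Opposite

attribute [local instance] HasDerivedCategory.standard

noncomputable section

/-- shortcut instance -/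
local instance (priority := 10000) abModFC (𝔛 : FSch.Sys.{u}) (h : 𝔛.IsFormal) : Abelian (FSch.ModF 𝔛 h) :=
  inferInstance

/-- shortcut instance -/
local instance (priority := 10000) abModS {C : Type u} [SmallCategory C] {J : GrothendieckTopology C}
    (O : Sheaf J CommRingCat.{u}) : Abelian (ModSite.Mod O) :=
  inferInstance

namespace Groth.L17.ComplExt

open Groth.L10 Groth.L17.FSheaf DerivedCategory
open Groth.L10.DevissageFF (HomBij)

/-- Quasi-coherent modules. -/
abbrev QP (X : Scheme.{u}) : ObjectProperty (ModSite.Mod X.sheaf) := fun M => Coh.IsQCoh (X := X) M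

theorem weakSerre_QP (X : Scheme.{u}) : WSerre.IsWeakSerre (QP X) := Groth.L29.DC.RpushQC.isWeakSerre_qcoh X

/-- Modules have no maps to negative shifts of modules. -/
theorem hom_single_eq_zero {C : Type (u + 1)} [Category.{u} C] [Abelian C] [HasDerivedCategory.{u + 1} C] (P Q : C)
    (n : ℤ) (hn : n < 0) (g : (singleFunctor C 0).obj P ⟶ ((singleFunctor C 0).obj Q)⟦n⟧) : g = 0 := by
  haveI : TStructure.t.IsLE ((singleFunctor C 0).obj P) 0 :=
    (inferInstance : DerivedCategory.IsLE ((singleFunctor C 0).obj P) 0)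
  haveI : TStructure.t.IsGE ((singleFunctor C 0).obj Q) 0 :=
    (inferInstance : DerivedCategory.IsGE ((singleFunctor C 0).obj Q) 0)
  haveI : TStructure.t.IsGE (((singleFunctor C 0).obj Q)⟦n⟧) (-n) := TStructure.t.isGE_shift _ 0 n (-n) (by omega)
  exact TStructure.t.zero g 0 (-n) (by omega)

/-- Coproducts of objects with bijective maps have bijective maps. -/
theorem homBij_sigma {C : Type (u + 1)} [Category.{u + 1} C] [Preadditive C] [HasShift C ℤ]
    {C' : Type (u + 1)} [Category.{u + 1} C'] [Preadditive C'] [HasShift C' ℤ]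
    (G : C ⥤ C') [G.IsLeftAdjoint] {ι : Type u} (K : ι → C) [HasCoproduct K] {L : C}
    (h : ∀ i, HomBij G (K i) L) : HomBij G (∐ K) L := fun n => by
  refine ⟨fun a b hab => Sigma.hom_ext _ _ fun i => (h i n).1 ?_, fun ψ => ?_⟩
  · exact (G.map_comp _ _).trans ((congrArg (G.map (Sigma.ι K i) ≫ ·) hab).trans (G.map_comp _ _).symm)
  · choose φ hφ using fun i => (h i n).2 (G.map (Sigma.ι K i) ≫ ψ)
    refine ⟨Sigma.desc φ, ?_⟩
    haveI : PreservesColimitsOfSize.{u, u} G := (Adjunction.ofIsLeftAdjoint G).leftAdjoint_preservesColimits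
    refine Cofan.IsColimit.hom_ext (isColimitOfHasCoproductOfPreservesColimit G K) _ _ fun i => ?_
    refine Eq.trans ?_ (hφ i)
    show G.map (Sigma.ι K i) ≫ G.map (Sigma.desc φ) = _
    rw [← G.map_comp, Sigma.ι_desc]

variable {A : Type u} [CommRing A] [IsNoetherianRing A] {I : Ideal A} [IsAdicComplete I A]
  {X : Scheme.{u}} (f : X ⟶ Spec (CommRingCat.of A)) [IsProper f] {𝔛 : FSch.Sys.{u}} {p : ∀ k, 𝔛.X k ⟶ X}
  (hA : IsCompl I f 𝔛 p) (hX : 𝔛.IsLocNoethFormal)
  [PreservesFiniteLimits (kap 𝔛 hX.1 p hA.comm).pull]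

include hA hX

theorem ffData : FFData (kap 𝔛 hX.1 p hA.comm).pull (QP X) (Groth.L17.IndRpush.ind hX) := by
  let κ := kap 𝔛 hX.1 p hA.comm
  haveI : κ.pull.Additive := SiteCmp.additive_pull κ
  haveI : PreservesFiniteColimits κ.pull := SiteCmp.preservesFiniteColimits_pull κ
  have hc := (indCoh f hA hX).2
  refine ⟨fun M hM => (hc _).2 ⟨M, hM, ⟨Iso.refl _⟩⟩, fun N hN => ?_, fun M M' hM hM' n => ?_⟩
  · obtain ⟨M, hM, he⟩ := (hc N).1 hN
    exact ⟨M, hM, he⟩
  haveI : IsGrothendieckAbelian.{u} (ModSite.Mod X.sheaf) := Groth.L10.shMod_isGrothendieckAbelian _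
  haveI : IsGrothendieckAbelian.{u} (FSch.ModF 𝔛 hX.1) := Groth.L10.shMod_isGrothendieckAbelian _
  obtain hn | hn := lt_or_ge n 0
  · refine ⟨fun a b _ => (hom_single_eq_zero _ _ n hn a).trans (hom_single_eq_zero _ _ n hn b).symm, fun b => ⟨0, ?_⟩⟩
    let eM := (κ.pull.mapDerivedCategorySingleFunctor 0).app M
    let eM' := (κ.pull.mapDerivedCategory.commShiftIso n).app _ ≪≫
      (shiftFunctor _ n).mapIso ((κ.pull.mapDerivedCategorySingleFunctor 0).app M')
    show κ.pull.mapDerivedCategory.map 0 = b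
    rw [Functor.map_zero, ← cancel_epi eM.inv, ← cancel_mono eM'.hom, comp_zero, zero_comp, Category.assoc]
    exact (hom_single_eq_zero _ _ n hn _).symm
  · obtain ⟨k, rfl⟩ : ∃ k : ℕ, n = k := ⟨n.toNat, by omega⟩
    have hb := bijective_mapExt f hA hX k M M' hM hM'
    let eM := (κ.pull.mapDerivedCategorySingleFunctor 0).app M
    let eM' := (κ.pull.mapDerivedCategory.commShiftIso (k : ℤ)).app _ ≪≫
      (shiftFunctor _ (k : ℤ)).mapIso ((κ.pull.mapDerivedCategorySingleFunctor 0).app M')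
    have e : (fun φ : (singleFunctor (ModSite.Mod X.sheaf) 0).obj M ⟶
          ((singleFunctor (ModSite.Mod X.sheaf) 0).obj M')⟦(k : ℤ)⟧ =>
          eM.inv ≫ κ.pull.mapDerivedCategory.map φ ≫ eM'.hom) =
        Ext.homEquiv ∘ (κ.pull.mapExtAddHom M M' k : Ext.{u} M M' k → _) ∘ Ext.homEquiv.symm := by
      funext φ
      show _ = ((Ext.homEquiv.symm φ).mapExactFunctor κ.pull).hom
      rw [Ext.mapExactFunctor_hom]
      show _ = _ ≫ ShiftedHom.map (Ext.homEquiv (Ext.homEquiv.symm φ)) _ ≫ _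
      rw [Equiv.apply_symm_apply]
      simp [eM, eM', ShiftedHom.map]
    have hb' : Function.Bijective (fun φ : (singleFunctor (ModSite.Mod X.sheaf) 0).obj M ⟶
          ((singleFunctor (ModSite.Mod X.sheaf) 0).obj M')⟦(k : ℤ)⟧ =>
          eM.inv ≫ κ.pull.mapDerivedCategory.map φ ≫ eM'.hom) := by
      rw [e]
      exact Ext.homEquiv.bijective.comp (hb.comp Ext.homEquiv.symm.bijective)
    refine ⟨fun a b hab => hb'.1 (show _ ≫ _ ≫ _ = _ ≫ _ ≫ _ by rw [show κ.pull.mapDerivedCategory.map a = κ.pull.mapDerivedCategory.map b from hab]), fun b => ?_⟩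
    obtain ⟨a, ha⟩ := hb'.2 (eM.inv ≫ b ≫ eM'.hom)
    exact ⟨a, (cancel_mono eM'.hom).1 ((cancel_epi eM.inv).1 ha)⟩

/-- Objects with ind-coherent cohomology are derived limits of their truncations. -/
theorem rlim_ind (M : DerivedCategory (FSch.ModF 𝔛 hX.1))
    [HasProduct fun n : ℕ => (TStructure.t.truncGE (-(n : ℤ))).obj M]
    (hM : WSerre.cohIn (Groth.L17.IndRpush.ind hX) M) :
    CohCx.IsRlimVia _ (TowerStab.tr M) M (fun n => (TStructure.t.truncGEπ (-(n : ℤ))).app M) := by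
  let 𝔛 := 𝔛
  obtain ⟨_, _, _⟩ := Groth.L10.ModRDer.insts (𝔛.Osh hX.1)
  haveI : KInjDerived.EnoughKInjectives (FSch.ModF 𝔛 hX.1) := ‹KInjDerived.EnoughKInjectives _›
  have hcov : ∀ (V : (𝔛.X 0).affineOpens) (T : Sieve V.1), T ∈ Opens.grothendieckTopology (𝔛.X 0) V.1 →
      ∃ (ι : Type u) (Y : ι → (𝔛.X 0).Opens) (k : ∀ i, Y i ⟶ V.1), (∀ i, T.arrows (k i)) ∧
        Sieve.ofArrows Y k ∈ Opens.grothendieckTopology (𝔛.X 0) V.1 ∧ ∀ i, Y i ∈ (𝔛.X 0).affineOpens := fun V T hT => by
    refine ⟨{W : (𝔛.X 0).Opens // IsAffineOpen W ∧ ∃ h : W ⟶ V.1, T.arrows h}, Subtype.val, fun W => W.2.2.choose,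
      fun W => W.2.2.choose_spec, fun x hx => ?_, fun W => W.2.1⟩
    obtain ⟨W', h, hT', hxW⟩ := hT x hx
    obtain ⟨W, hW, hxW', hWW'⟩ := exists_isAffineOpen_mem_and_subset hxW
    let k : W ⟶ W' := homOfLE hWW'
    exact ⟨W, k ≫ h, (Sieve.mem_ofArrows_iff _ _ _).2
      ⟨⟨W, hW, ⟨k ≫ h, T.downward_closed hT' k⟩⟩, 𝟙 _, Subsingleton.elim _ _⟩, hxW'⟩
  let 𝒞 := SiteCover.cover (𝔛.Osh hX.1) (𝔛.X 0).affineOpens (fun U => by
    refine ⟨{W : (𝔛.X 0).Opens // IsAffineOpen W ∧ W ≤ U}, fun W => W.1, fun W => homOfLE W.2.2, fun x hx => ?_,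
      fun W => W.2.1⟩
    obtain ⟨W, hW, hxW, hWU⟩ := exists_isAffineOpen_mem_and_subset hx
    exact ⟨W, homOfLE hWU, (Sieve.mem_ofArrows_iff _ _ _).2 ⟨⟨W, hW, hWU⟩, 𝟙 _, Subsingleton.elim _ _⟩, hxW⟩)
    (fun _ => (𝔛.X 0).affineOpens) hcov
  refine TowerStab.isRlimVia_truncGE (𝒞 := 𝒞) fun V => ⟨0, ?_⟩
  rintro _ ⟨W, hW, rfl⟩ p
  refine SiteCover.small_of_HU (𝔛.Osh hX.1) W _ 0 fun k hk => ?_
  obtain ⟨m, rfl⟩ : ∃ m, k = m + 1 := ⟨k - 1, by omega⟩
  exact subsingleton_of_forall_eq 0 (Groth.L17.IndRpush.acyclicOn_ind hX (hM p) W hW m)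

theorem hasProduct_trunc (M : DerivedCategory (FSch.ModF 𝔛 hX.1)) :
    HasProduct fun n : ℕ => (TStructure.t.truncGE (-(n : ℤ))).obj M := by
  haveI : IsGrothendieckAbelian.{u} (FSch.ModF 𝔛 hX.1) := Groth.L10.shMod_isGrothendieckAbelian _
  obtain ⟨_, _, _⟩ := Groth.L10.ModRDer.insts (𝔛.Osh hX.1)
  haveI : HasProductsOfShape ℕ (FSch.ModF 𝔛 hX.1) := inferInstance
  haveI := Groth.L10.DerivedProd.hasProductsOfShape (A := FSch.ModF 𝔛 hX.1) (ι := ℕ)
  infer_instance

/-- The completion is fully faithful on objects with quasi-coherent cohomology. -/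
theorem bijective_pullD {E E' : DerivedCategory (ModSite.Mod X.sheaf)} (hE : WSerre.cohIn (QP X) E)
    (hE' : WSerre.cohIn (QP X) E') :
    Function.Bijective fun φ : E ⟶ E' => (SiteCmp.pullD (kap 𝔛 hX.1 p hA.comm)).map φ := by
  classical
  haveI : IsLocallyNoetherian X := LocallyOfFiniteType.isLocallyNoetherian f
  haveI : CompactSpace X := QuasiCompact.compactSpace_of_compactSpace f
  haveI : AlgebraicGeometry.IsNoetherian X := {}
  haveI : QuasiSeparatedSpace X := inferInstance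
  haveI := hA.closedImmersion 0
  haveI : CompactSpace (𝔛.X 0) := QuasiCompact.compactSpace_of_compactSpace (p 0)
  haveI := weakSerre_QP X
  haveI := Groth.L17.IndRpush.weakSerre_ind hX
  let κ := kap 𝔛 hX.1 p hA.comm
  haveI : κ.pull.Additive := SiteCmp.additive_pull κ
  haveI : PreservesFiniteColimits κ.pull := SiteCmp.preservesFiniteColimits_pull κ
  haveI : PreservesFiniteColimits κ.push := RpushComp.preservesFiniteColimits_pushKap hX.1 _ _
  haveI : κ.push.Additive := κ.adj.right_adjoint_additive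
  let G := κ.pull.mapDerivedCategory
  haveI : G.IsLeftAdjoint := ⟨_, ⟨ExactAdj.adjD κ.adj⟩⟩
  have hd := ffData f hA hX
  obtain ⟨P, hP, hgen⟩ := Groth.L29.DC.Gen.exists_perfect_generator X
  have hPq : DCoh.IsQCohD P := Groth.L29.DC.PCQCoh.isQCohD_of_perfect hP
  -- the generator
  have hbase : ∀ (n : ℤ) (L : DerivedCategory (ModSite.Mod X.sheaf)), WSerre.cohIn (QP X) L →
      Function.Bijective (fun φ : (show DerivedCategory (ModSite.Mod X.sheaf) from P⟦n⟧) ⟶ L => G.map φ) :=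
    fun n L hL => by
      have hPn := Groth.L29.DC.perfect_shift hP n
      obtain ⟨a, b, ha, hb⟩ := Groth.L29.CohSupp.exists_bounds_of_perfect hPn
      obtain ⟨c, hc⟩ := Groth.L29.DC.Cpt.exists_hom_zero hPn
      exact bijective_of_test hd (Q₀ := P⟦n⟧) ⟨Groth.L29.DC.Gen.isQCohD_shift hPq n, ⟨a, ha⟩, ⟨b, hb⟩⟩ c
        (fun L hL hle g => hc L hL hle g) (hasProduct_trunc f hA hX)
        (fun M hM => haveI := hasProduct_trunc f hA hX M; rlim_ind f hA hX M hM) hL
  haveI := Groth.L29.DC.Gen.locallySmall_D X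
  haveI : HasCoproducts.{u} (DCoh.D X) := Groth.L29.DC.Gen.hasCoproducts_D X
  haveI : HasColimitsOfShape (Discrete ℕ) (DCoh.D X) :=
    hasColimitsOfShape_of_equivalence (Discrete.equivalence (Equiv.ulift.{u} : ULift.{u} ℕ ≃ ℕ))
  haveI : ∀ (Y : DCoh.D X) (n : ℤ), Small.{u} (P⟦n⟧ ⟶ Y) := fun Y n => inferInstance
  let Φ : ObjectProperty (DCoh.D X) := fun E => HomBij G (show DerivedCategory (ModSite.Mod X.sheaf) from E) E'
  suffices h : Φ E from DevissageFF.bij_iso_right G ((shiftFunctorZero _ ℤ).app E') (h 0)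
  refine Groth.L29.BC.localizing_top (G := P) Φ (DCoh.IsQCohD (X := X))
    (fun e h => DevissageFF.homBij_iso_left G e h) (fun n m => ?_) (fun {ι} K hK h n => ?_)
    (fun T hT _ _ h₁ h₂ => DevissageFF.homBij_ext_left G _ (rot_of_distTriang T hT) h₂
      (DevissageFF.homBij_shift_left G 1 h₁))
    (fun n => Groth.L29.DC.Gen.isQCohD_shift hPq n)
    (fun {ι} K hK => Groth.L29.DC.QCohColim.isQCohD_coproduct K hK) (fun K hK => ?_)
    (fun T hT h₁ h₂ => Groth.L29.DC.Gen.isQCohD_third T hT h₁ h₂)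
    (fun n => Groth.L29.DC.Gen.cpt_of_perfect (Groth.L29.DC.perfect_shift hP n)) hgen hE
  · exact hbase n _ ((WSerreLib.cohIn_isTriangulated (QP X)).1.isStableUnderShiftBy m |>.le_shift _ hE')
  · haveI := Groth.L29.DC.Gen.hasCoproducts_D X ι
    haveI hc : @HasCoproduct ι (DerivedCategory (ModSite.Mod X.sheaf)) _ K :=
      (inferInstance : @HasCoproduct ι (DCoh.D X) _ K)
    exact homBij_sigma (C := DerivedCategory (ModSite.Mod X.sheaf)) G K h n
  · refine Groth.L29.DC.isQCohD_of_iso ?_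
      (Groth.L29.DC.QCohColim.isQCohD_coproduct (fun n : ULift.{u} ℕ => K n.down) fun n => hK n.down)
    exact Sigma.whiskerEquiv (f := fun n : ULift.{u} ℕ => K n.down) (g := K) Equiv.ulift.{u} fun n => Iso.refl _

/-- The image of the completion. -/
theorem exists_pullD_iso {M : DerivedCategory (FSch.ModF 𝔛 hX.1)}
    (hM : WSerre.cohIn (Groth.L17.IndRpush.ind hX) M) :
    ∃ E : DerivedCategory (ModSite.Mod X.sheaf), WSerre.cohIn (QP X) E ∧
      Nonempty ((SiteCmp.pullD (kap 𝔛 hX.1 p hA.comm)).obj E ≅ M) := by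
  haveI : IsLocallyNoetherian X := LocallyOfFiniteType.isLocallyNoetherian f
  haveI := hA.closedImmersion 0
  haveI : CompactSpace X := QuasiCompact.compactSpace_of_compactSpace f
  haveI : CompactSpace (𝔛.X 0) := QuasiCompact.compactSpace_of_compactSpace (p 0)
  haveI := weakSerre_QP X
  haveI := Groth.L17.IndRpush.weakSerre_ind hX
  let κ := kap 𝔛 hX.1 p hA.comm
  haveI : κ.pull.Additive := SiteCmp.additive_pull κ
  haveI : PreservesFiniteColimits κ.pull := SiteCmp.preservesFiniteColimits_pull κ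
  haveI : PreservesFiniteColimits κ.push := RpushComp.preservesFiniteColimits_pushKap hX.1 _ _
  haveI : κ.push.Additive := κ.adj.right_adjoint_additive
  exact exists_preimage (ffData f hA hX) κ.adj (hasStableColim_qcoh X) (hasStableLim_qcoh X)
    (fun K L hK hL => bijective_pullD f hA hX hK hL) (hasProduct_trunc f hA hX)
    (fun M hM => haveI := hasProduct_trunc f hA hX M; rlim_ind f hA hX M hM) hM

/-- Completed objects have ind-coherent cohomology. -/
theorem cohIn_pullD {E : DerivedCategory (ModSite.Mod X.sheaf)} (hE : WSerre.cohIn (QP X) E) :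
    WSerre.cohIn (Groth.L17.IndRpush.ind hX) ((SiteCmp.pullD (kap 𝔛 hX.1 p hA.comm)).obj E) := by
  haveI := hA.closedImmersion 0
  haveI : CompactSpace X := QuasiCompact.compactSpace_of_compactSpace f
  haveI : CompactSpace (𝔛.X 0) := QuasiCompact.compactSpace_of_compactSpace (p 0)
  haveI := Groth.L17.IndRpush.weakSerre_ind hX
  let κ := kap 𝔛 hX.1 p hA.comm
  haveI : κ.pull.Additive := SiteCmp.additive_pull κ
  haveI : PreservesFiniteColimits κ.pull := SiteCmp.preservesFiniteColimits_pull κ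
  exact WSerreLib.cohIn_mapDerivedCategory κ.pull (QP X) _ (ffData f hA hX).map E hE

end Groth.L17.ComplExt
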