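import Groth.Agent.L17.ComplExt.DerGeneric
import Groth.Agent.L10.ExactAdj.Derived

/-!
# The essential image of an exact functor on unbounded derived categories
-/

set_option autoImplicit false
set_option linter.style.haveILetI false
set_option linter.unusedSectionVars false
set_option backward.defeqAttrib.useBackward true
set_option backward.isDefEq.respectTransparency false
set_option backward.isDefEq.respectTransparency.types false

universe w w' v v' u u'

open CategoryTheory CategoryTheory.Limits CategoryTheory.Pretriangulated CategoryTheory.Triangulated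

noncomputable section

namespace Groth.L17.ComplExt

open Groth.L10 Groth.L10.DevissageFF DerivedCategory

variable {A : Type u} [Category.{v} A] [Abelian A] [HasDerivedCategory.{w} A]

/-- Sequences with eventually constant cohomology have colimits with the expected cohomology. -/
def HasStableColim (P : ObjectProperty A) : Prop :=
  ∀ (E : ℕ → DerivedCategory A) (f : ∀ n, E n ⟶ E (n + 1)), (∀ n, WSerre.cohIn P (E n)) →
    (∀ j : ℤ, ∃ n₀ : ℕ, ∀ n, n₀ ≤ n → IsIso ((homologyFunctor A j).map (f n))) →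
    ∃ (L : DerivedCategory A) (l : ∀ n, E n ⟶ L),
      (∀ j : ℤ, ∃ n₀ : ℕ, ∀ n, n₀ ≤ n → IsIso ((homologyFunctor A j).map (l n))) ∧
      ∀ (K : DerivedCategory A) (k : ∀ n, E n ⟶ K), (∀ n, f n ≫ k (n + 1) = k n) →
        ∃ φ : L ⟶ K, ∀ n, l n ≫ φ = k n

/-- Bounded below towers with eventually constant cohomology have limits with the expected cohomology. -/
def HasStableLim (P : ObjectProperty A) : Prop :=
  ∀ (E : ℕ → DerivedCategory A) (t : ∀ n, E (n + 1) ⟶ E n), (∀ n, WSerre.cohInPlus P (E n)) →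
    (∀ j : ℤ, ∃ n₀ : ℕ, ∀ n, n₀ ≤ n → IsIso ((homologyFunctor A j).map (t n))) →
    ∃ (L : DerivedCategory A) (a : ∀ n, L ⟶ E n), (∀ n, a (n + 1) ≫ t n = a n) ∧
      ∀ j : ℤ, ∃ n₀ : ℕ, ∀ n, n₀ ≤ n → IsIso ((homologyFunctor A j).map (a n))

theorem isZero_H_cone (T : Triangle (DerivedCategory A)) (hT : T ∈ distTriang _) (i : ℤ)
    (h₀ : IsIso ((homologyFunctor A i).map T.mor₁)) (h₁ : IsIso ((homologyFunctor A (i + 1)).map T.mor₁)) :
    IsZero ((homologyFunctor A i).obj T.obj₃) := by
  have e : (homologyFunctor A i).map T.mor₂ = 0 := by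
    rw [← cancel_epi ((homologyFunctor A i).map T.mor₁), ← Functor.map_comp, comp_zero,
      comp_distTriang_mor_zero₁₂ _ hT, Functor.map_zero]
  have e3 : HomologySequence.δ T i (i + 1) (by omega) = 0 :=
    (HomologySequence.mono_homologyMap_mor₁_iff _ hT i (i + 1) (by omega)).1
      (inferInstanceAs (Mono ((homologyFunctor A (i + 1)).map T.mor₁)))
  have := (HomologySequence.exact₃ _ hT i (i + 1) (by omega)).mono_g e
  rw [IsZero.iff_id_eq_zero]
  exact (cancel_mono (HomologySequence.δ T i (i + 1) (by omega))).1 (by rw [e3, comp_zero, comp_zero])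

variable {B : Type u'} [Category.{v'} B] [Abelian B] [HasDerivedCategory.{w'} B]
  {F : A ⥤ B} [F.Additive] [PreservesFiniteLimits F] [PreservesFiniteColimits F]
  {P : ObjectProperty A} {P' : ObjectProperty B} [WSerre.IsWeakSerre P] [WSerre.IsWeakSerre P']
  (h : FFData F P P')

include h

/-- Isomorphisms on cohomology are seen after applying the functor. -/
theorem isIso_H_of_map {X Y : DerivedCategory A} (hX : WSerre.cohIn P X) (hY : WSerre.cohIn P Y) (g : X ⟶ Y)
    (j : ℤ) (hg : ∀ i : ℤ, j - 1 ≤ i → i ≤ j + 1 →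
      IsIso ((homologyFunctor B i).map (F.mapDerivedCategory.map g))) :
    IsIso ((homologyFunctor A j).map g) := by
  obtain ⟨Z, p, q, hT⟩ := distinguished_cocone_triangle g
  haveI := (WSerreLib.cohIn_isTriangulated P).1
  have hZ : WSerre.cohIn P Z := fun i =>
    RDerBound.prop_obj₂ P _ (rot_of_distTriang _ hT) i (by
      exact P.prop_of_iso (hShiftIso X 1 (i - 1) i (by omega)).symm (hX i)) (hY i) (by
      exact P.prop_of_iso (hShiftIso X 1 i (i + 1) (by omega)).symm (hX (i + 1))) (hY (i + 1))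
  have hz : ∀ i : ℤ, j - 1 ≤ i → i + 1 ≤ j + 1 → IsZero ((homologyFunctor A i).obj Z) := fun i h1 h2 => by
    obtain ⟨e⟩ := WSerreLib.homology_map_iso F Z i
    exact isZero_of_isZero_map h (hZ i) ((isZero_H_cone _ (F.mapDerivedCategory.map_distinguished _ hT) i
      (hg i h1 (by omega)) (hg (i + 1) (by omega) h2)).of_iso e.symm)
  exact isIso_H_mor₁ _ hT j (hz (j - 1) le_rfl (by omega)) (hz j (by omega) le_rfl)

omit h in
/-- Isomorphisms on cohomology are preserved by the functor. -/
theorem isIso_H_map {X Y : DerivedCategory A} (g : X ⟶ Y)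
    (j : ℤ) (hg : ∀ i : ℤ, j - 1 ≤ i → i ≤ j + 1 → IsIso ((homologyFunctor A i).map g)) :
    IsIso ((homologyFunctor B j).map (F.mapDerivedCategory.map g)) := by
  obtain ⟨Z, p, q, hT⟩ := distinguished_cocone_triangle g
  have hz : ∀ i : ℤ, j - 1 ≤ i → i + 1 ≤ j + 1 →
      IsZero ((homologyFunctor B i).obj (F.mapDerivedCategory.obj Z)) := fun i h1 h2 => by
    obtain ⟨e⟩ := WSerreLib.homology_map_iso F Z i
    exact (F.map_isZero (isZero_H_cone _ hT i (hg i h1 (by omega)) (hg (i + 1) (by omega) h2))).of_iso e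
  exact isIso_H_mor₁ _ (F.mapDerivedCategory.map_distinguished _ hT) j (hz (j - 1) le_rfl (by omega)) (hz j (by omega) le_rfl)

omit h in
theorem eventually_window (j : ℤ) {Q : ℕ → ℤ → Prop}
    (hQ : ∀ i : ℤ, ∃ n₀ : ℕ, ∀ n, n₀ ≤ n → Q n i) :
    ∃ n₀ : ℕ, ∀ n, n₀ ≤ n → ∀ i : ℤ, j - 1 ≤ i → i ≤ j + 1 → Q n i := by
  obtain ⟨a, ha⟩ := hQ (j - 1)
  obtain ⟨b, hb⟩ := hQ j
  obtain ⟨c, hc⟩ := hQ (j + 1)
  refine ⟨a + b + c, fun n hn i h1 h2 => ?_⟩
  obtain rfl | rfl | rfl : i = j - 1 ∨ i = j ∨ i = j + 1 := by omega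
  · exact ha n (by omega)
  · exact hb n (by omega)
  · exact hc n (by omega)

variable {R : B ⥤ A} [R.Additive] [PreservesFiniteLimits R] [PreservesFiniteColimits R]

include R in
/-- Bounded below objects with cohomology in the class are in the image. -/
theorem exists_preimage_plus (adj : F ⊣ R) (hcolim : HasStableColim P)
    (hFF : ∀ K L : DerivedCategory A, WSerre.cohIn P K → WSerre.cohIn P L →
      Function.Bijective (fun φ : K ⟶ L => F.mapDerivedCategory.map φ))
    {M : DerivedCategory B} (hM : WSerre.cohIn P' M) (a : ℤ) (ha : M.IsGE a) :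
    ∃ E : DerivedCategory A, WSerre.cohIn P E ∧ E.IsGE a ∧ Nonempty (F.mapDerivedCategory.obj E ≅ M) := by
  let K : ℕ → DerivedCategory B := fun n => (TStructure.t.truncLT (n : ℤ)).obj M
  have hK : ∀ n, WSerre.cohInBdd P' (K n) := fun n =>
    ⟨cohIn_truncLT P' hM _, ⟨a, isGE_truncLT M a _ ha⟩, ⟨(n : ℤ) - 1, TStructure.t.isLE_truncLT_obj _ _ _ (by omega)⟩⟩
  choose E hE he using fun n => (s15234 F P P' h.map h.ess h.ext).2.2 (K n) (hK n)
  let e := fun n => (he n).some
  let k : ∀ n : ℕ, K n ⟶ K (n + 1) := fun n =>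
    (TStructure.t.natTransTruncLTOfLE (n : ℤ) ((n + 1 : ℕ) : ℤ) (by omega)).app M
  have hk : ∀ n, k n ≫ (TStructure.t.truncLTι ((n + 1 : ℕ) : ℤ)).app M = (TStructure.t.truncLTι (n : ℤ)).app M :=
    fun n => TStructure.t.natTransTruncLTOfLE_ι_app (n : ℤ) ((n + 1 : ℕ) : ℤ) (by omega) M
  choose f hf using fun n => (bijective_bdd h (hE n) (hE (n + 1))).2 ((e n).hom ≫ k n ≫ (e (n + 1)).inv)
  have hι : ∀ (n : ℕ) (i : ℤ), i < n → IsIso ((homologyFunctor B i).map ((TStructure.t.truncLTι (n : ℤ)).app M)) :=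
    fun n i hi => Groth.L10.isIso_H_ι _ i hi M
  have hst : ∀ j : ℤ, ∃ n₀ : ℕ, ∀ n, n₀ ≤ n → IsIso ((homologyFunctor A j).map (f n)) := fun j => by
    refine ⟨(j + 2).toNat, fun n hn => isIso_H_of_map h (hE n).1 (hE (n + 1)).1 (f n) j fun i _ h2 => ?_⟩
    have := hι n i (by omega)
    have := hι (n + 1) i (by omega)
    have h3 := congrArg (homologyFunctor B i).map (hk n)
    rw [Functor.map_comp] at h3
    haveI : IsIso ((homologyFunctor B i).map (k n) ≫
        (homologyFunctor B i).map ((TStructure.t.truncLTι ((n + 1 : ℕ) : ℤ)).app M)) := by rw [h3]; infer_instance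
    haveI : IsIso ((homologyFunctor B i).map (k n)) :=
      IsIso.of_isIso_comp_right _ ((homologyFunctor B i).map ((TStructure.t.truncLTι ((n + 1 : ℕ) : ℤ)).app M))
    have h4 : F.mapDerivedCategory.map (f n) = (e n).hom ≫ k n ≫ (e (n + 1)).inv := hf n
    rw [h4, Functor.map_comp, Functor.map_comp]
    infer_instance
  obtain ⟨L, l, hl, huniv⟩ := hcolim E f (fun n => (hE n).1) hst
  let τ := ExactAdj.adjD adj
  obtain ⟨ψ, hψ⟩ := huniv (R.mapDerivedCategory.obj M)
    (fun n => τ.homEquiv _ _ ((e n).hom ≫ (TStructure.t.truncLTι (n : ℤ)).app M)) fun n => by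
      rw [← τ.homEquiv_naturality_left, show F.mapDerivedCategory.map (f n) = _ from hf n]
      simp only [Category.assoc, Iso.inv_hom_id_assoc]
      exact congrArg _ (congrArg ((e n).hom ≫ ·) (hk n))
  let φ : F.mapDerivedCategory.obj L ⟶ M := (τ.homEquiv _ _).symm ψ
  have hφ : ∀ n, F.mapDerivedCategory.map (l n) ≫ φ = (e n).hom ≫ (TStructure.t.truncLTι (n : ℤ)).app M := fun n => by
    rw [← τ.homEquiv_naturality_left_symm, hψ n, Equiv.symm_apply_apply]
  have hcoh : WSerre.cohIn P L := fun j => by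
    obtain ⟨n₀, hn⟩ := hl j
    haveI := hn n₀ le_rfl
    exact P.prop_of_iso (asIso ((homologyFunctor A j).map (l n₀))) ((hE n₀).1 j)
  haveI : IsIso φ := (DerivedCategory.isIso_iff _ φ).2 fun j => by
    obtain ⟨n₀, hn⟩ := eventually_window j hl
    let n := max n₀ (j + 1).toNat
    haveI := isIso_H_map (F := F) (l n) j (hn n (le_max_left _ _))
    haveI := hι n j (by have := le_max_right n₀ (j + 1).toNat; omega)
    have h5 := congrArg (homologyFunctor B j).map (hφ n)
    rw [Functor.map_comp, Functor.map_comp] at h5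
    haveI : IsIso ((homologyFunctor B j).map (F.mapDerivedCategory.map (l n)) ≫ (homologyFunctor B j).map φ) := by
      rw [h5]; infer_instance
    exact IsIso.of_isIso_comp_left ((homologyFunctor B j).map (F.mapDerivedCategory.map (l n))) _
  refine ⟨L, hcoh, isGE_of_isGE_map h hcoh a ?_, ⟨asIso φ⟩⟩
  rw [DerivedCategory.isGE_iff]
  exact fun i hi => (DerivedCategory.isZero_of_isGE M a i hi).of_iso ((homologyFunctor B i).mapIso (asIso φ))

include R in
/-- Objects with cohomology in the class are in the image. -/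
theorem exists_preimage (adj : F ⊣ R) (hcolim : HasStableColim P) (hlim : HasStableLim P)
    (hFF : ∀ K L : DerivedCategory A, WSerre.cohIn P K → WSerre.cohIn P L →
      Function.Bijective (fun φ : K ⟶ L => F.mapDerivedCategory.map φ))
    (hprod : ∀ M : DerivedCategory B, HasProduct fun n : ℕ => (TStructure.t.truncGE (-(n : ℤ))).obj M)
    (hR : ∀ M : DerivedCategory B, WSerre.cohIn P' M →
      haveI := hprod M
      CohCx.IsRlimVia _ (TowerStab.tr M) M (fun n => (TStructure.t.truncGEπ (-(n : ℤ))).app M))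
    {M : DerivedCategory B} (hM : WSerre.cohIn P' M) :
    ∃ E : DerivedCategory A, WSerre.cohIn P E ∧ Nonempty (F.mapDerivedCategory.obj E ≅ M) := by
  haveI := hprod M
  let K : ℕ → DerivedCategory B := fun n => (TStructure.t.truncGE (-(n : ℤ))).obj M
  choose E hE hEge he using fun n : ℕ => exists_preimage_plus h adj hcolim hFF
    (M := (TStructure.t.truncGE (-(n : ℤ))).obj M) (cohIn_truncGE P' hM _) (-(n : ℤ))
    (inferInstanceAs (TStructure.t.IsGE _ _))
  let e := fun n => (he n).some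
  choose t ht using fun n => (hFF _ _ (hE (n + 1)) (hE n)).2 ((e (n + 1)).hom ≫ TowerStab.tr M n ≫ (e n).inv)
  have hπ : ∀ (n : ℕ) (i : ℤ), -(n : ℤ) ≤ i →
      IsIso ((homologyFunctor B i).map ((TStructure.t.truncGEπ (-(n : ℤ))).app M)) :=
    fun n i hi => Groth.L10.isIso_H_π _ i hi M
  have hw : ∀ n : ℕ, (TStructure.t.truncGEπ (-((n + 1 : ℕ) : ℤ))).app M ≫ TowerStab.tr M n =
      (TStructure.t.truncGEπ (-(n : ℤ))).app M := fun n => TStructure.t.π_natTransTruncGEOfLE_app _ _ _ M
  have hst : ∀ j : ℤ, ∃ n₀ : ℕ, ∀ n, n₀ ≤ n → IsIso ((homologyFunctor A j).map (t n)) := fun j => by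
    refine ⟨(-j + 2).toNat, fun n hn => isIso_H_of_map h (hE (n + 1)) (hE n) (t n) j fun i h1 _ => ?_⟩
    have := hπ n i (by omega)
    have := hπ (n + 1) i (by omega)
    have h3 := congrArg (homologyFunctor B i).map (hw n)
    rw [Functor.map_comp] at h3
    haveI : IsIso ((homologyFunctor B i).map ((TStructure.t.truncGEπ (-((n + 1 : ℕ) : ℤ))).app M) ≫
        (homologyFunctor B i).map (TowerStab.tr M n)) := by rw [h3]; infer_instance
    haveI : IsIso ((homologyFunctor B i).map (TowerStab.tr M n)) :=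
      IsIso.of_isIso_comp_left ((homologyFunctor B i).map ((TStructure.t.truncGEπ (-((n + 1 : ℕ) : ℤ))).app M)) _
    have h4 : F.mapDerivedCategory.map (t n) = (e (n + 1)).hom ≫ TowerStab.tr M n ≫ (e n).inv := ht n
    rw [h4, Functor.map_comp, Functor.map_comp]
    infer_instance
  obtain ⟨L, a, ha, haH⟩ := hlim E t (fun n => ⟨hE n, ⟨-(n : ℤ), hEge n⟩⟩) hst
  obtain ⟨c, hT⟩ := hR M hM
  obtain ⟨φ, hφ⟩ := Triangle.coyoneda_exact₂ _ hT
    (Pi.lift fun n => F.mapDerivedCategory.map (a n) ≫ (e n).hom) (Pi.hom_ext _ _ fun n => by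
      simp only [Triangle.mk_mor₂, Category.assoc, zero_comp, Pi.lift_π, Preadditive.comp_sub, Pi.lift_π_assoc]
      rw [sub_eq_zero, show (e (n + 1)).hom ≫ TowerStab.tr M n = F.mapDerivedCategory.map (t n) ≫ (e n).hom by
          rw [show F.mapDerivedCategory.map (t n) = _ from ht n]; simp,
        ← Category.assoc, ← Functor.map_comp, ha])
  have hφn : ∀ n : ℕ, φ ≫ (TStructure.t.truncGEπ (-(n : ℤ))).app M = F.mapDerivedCategory.map (a n) ≫ (e n).hom :=
    fun n => by
      have := congrArg (· ≫ Pi.π K n) hφ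
      simp only [K, Triangle.mk_mor₁, Category.assoc, Pi.lift_π] at this
      exact this.symm
  have hcoh : WSerre.cohIn P L := fun j => by
    obtain ⟨n₀, hn⟩ := haH j
    haveI := hn n₀ le_rfl
    exact P.prop_of_iso (asIso ((homologyFunctor A j).map (a n₀))).symm (hE n₀ j)
  haveI : IsIso φ := (DerivedCategory.isIso_iff _ φ).2 fun j => by
    obtain ⟨n₀, hn⟩ := eventually_window j haH
    let n := max n₀ (-j).toNat
    haveI := isIso_H_map (F := F) (a n) j (hn n (le_max_left _ _))
    haveI := hπ n j (by have := le_max_right n₀ (-j).toNat; omega)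
    have h5 := congrArg (homologyFunctor B j).map (hφn n)
    rw [Functor.map_comp, Functor.map_comp] at h5
    haveI : IsIso ((homologyFunctor B j).map φ ≫
        (homologyFunctor B j).map ((TStructure.t.truncGEπ (-(n : ℤ))).app M)) := by rw [h5]; infer_instance
    exact IsIso.of_isIso_comp_right _ ((homologyFunctor B j).map ((TStructure.t.truncGEπ (-(n : ℤ))).app M))
  exact ⟨L, hcoh, ⟨asIso φ⟩⟩

end Groth.L17.ComplExt
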