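import Groth.Agent.L10.DevissageFF
import Groth.Agent.L10.TowerConst
import Groth.Agent.L10.DerivedAdj
import Groth.Agent.S1034

/-!
# Extending full faithfulness and the essential image of an exact functor to unbounded derived categories
-/

set_option autoImplicit false
set_option linter.style.haveILetI false
set_option linter.unusedSectionVars false
set_option backward.defeqAttrib.useBackward true
set_option backward.isDefEq.respectTransparency false
set_option backward.isDefEq.respectTransparency.types false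

universe w w' v v' u u'

open CategoryTheory CategoryTheory.Limits CategoryTheory.Pretriangulated CategoryTheory.Triangulated

noncomputable section

namespace Groth.L17.ComplExt

open Groth.L10 Groth.L10.DevissageFF

section Helpers

variable {T : Type u} [Category.{v} T] [Preadditive T] [HasZeroObject T] [HasShift T ℤ]
  [∀ n : ℤ, (shiftFunctor T n).Additive] [Pretriangulated T]

theorem comp_mor₁_bijective {W : T} (D : Triangle T) (hD : D ∈ distTriang T) (h₀ : ∀ g : W ⟶ D.obj₃, g = 0)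
    (h₁ : ∀ g : W ⟶ D.obj₃⟦(-1 : ℤ)⟧, g = 0) :
    Function.Bijective (fun ξ : W ⟶ D.obj₁ => ξ ≫ D.mor₁) := by
  refine ⟨fun ξ ξ' e => sub_eq_zero.1 ?_, fun η => ?_⟩
  · obtain ⟨g, hg⟩ := Triangle.coyoneda_exact₂ D.invRotate (inv_rot_of_distTriang _ hD) (ξ - ξ')
      ((Preadditive.sub_comp _ _ _).trans (sub_eq_zero.2 e))
    rw [hg, show g = 0 from h₁ g, zero_comp]
  · obtain ⟨ξ, hξ⟩ := Triangle.coyoneda_exact₂ D hD η (h₀ _)
    exact ⟨ξ, hξ.symm⟩

theorem comp_mor₂_bijective {W : T} (D : Triangle T) (hD : D ∈ distTriang T) (h₀ : ∀ g : W ⟶ D.obj₁, g = 0)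
    (h₁ : ∀ g : W ⟶ D.obj₁⟦(1 : ℤ)⟧, g = 0) :
    Function.Bijective (fun ξ : W ⟶ D.obj₂ => ξ ≫ D.mor₂) := by
  refine ⟨fun ξ ξ' e => sub_eq_zero.1 ?_, fun η => ?_⟩
  · obtain ⟨g, hg⟩ := Triangle.coyoneda_exact₂ D hD (ξ - ξ') ((Preadditive.sub_comp _ _ _).trans (sub_eq_zero.2 e))
    rw [hg, h₀ g, zero_comp]
  · obtain ⟨ξ, hξ⟩ := Triangle.coyoneda_exact₃ D hD η (h₁ _)
    exact ⟨ξ, hξ.symm⟩

theorem map_bijective_iff_of_comp {T' : Type u'} [Category.{v'} T'] (F : T ⥤ T') {W X Y : T} (f : X ⟶ Y)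
    (h : Function.Bijective (fun ξ : W ⟶ X => ξ ≫ f))
    (h' : Function.Bijective (fun ξ : F.obj W ⟶ F.obj X => ξ ≫ F.map f)) :
    Function.Bijective (fun φ : W ⟶ X => F.map φ) ↔ Function.Bijective (fun φ : W ⟶ Y => F.map φ) := by
  have e : (fun φ : W ⟶ Y => F.map φ) ∘ (fun ξ : W ⟶ X => ξ ≫ f) =
      (fun ξ : F.obj W ⟶ F.obj X => ξ ≫ F.map f) ∘ (fun φ : W ⟶ X => F.map φ) := funext fun ξ => F.map_comp ξ f
  rw [← Function.Bijective.of_comp_iff _ h, e, Function.Bijective.of_comp_iff' h']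

theorem eq_zero_of_shift_eq_zero {X Y : T} (g : X⟦(1 : ℤ)⟧ ⟶ Y) (h : ∀ g' : X ⟶ Y⟦(-1 : ℤ)⟧, g' = 0) : g = 0 := by
  refine (shiftFunctor T (-1 : ℤ)).map_injective ?_
  rw [Functor.map_zero, ← cancel_epi ((shiftShiftNeg X (1 : ℤ)).symm.hom)]
  rw [h ((shiftShiftNeg X (1 : ℤ)).symm.hom ≫ g⟦(-1 : ℤ)⟧'), comp_zero]

end Helpers

open DerivedCategory

variable {A : Type u} [Category.{v} A] [Abelian A] [HasDerivedCategory.{w} A]
  {B : Type u'} [Category.{v'} B] [Abelian B] [HasDerivedCategory.{w'} B]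
  (F : A ⥤ B) [F.Additive] [PreservesFiniteLimits F] [PreservesFiniteColimits F]
  (P : ObjectProperty A) (P' : ObjectProperty B)

/-- The hypotheses on the abelian categories. -/
structure FFData : Prop where
  map : ∀ M, P M → P' (F.obj M)
  ess : ∀ N, P' N → ∃ M, P M ∧ Nonempty (F.obj M ≅ N)
  ext : ∀ M M' : A, P M → P M' →
    HomBij F.mapDerivedCategory ((singleFunctor A 0).obj M) ((singleFunctor A 0).obj M')

variable {F P P'} [WSerre.IsWeakSerre P] [WSerre.IsWeakSerre P'] (h : FFData F P P')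

include h

theorem bijective_bdd {K L : DerivedCategory A} (hK : WSerre.cohInBdd P K) (hL : WSerre.cohInBdd P L) :
    Function.Bijective (fun φ : K ⟶ L => F.mapDerivedCategory.map φ) :=
  (s15234 F P P' h.map h.ess h.ext).2.1 K L hK hL

theorem isZero_of_isZero_map {M : A} (hM : P M) (hz : IsZero (F.obj M)) : IsZero M := by
  have hb := bijective_bdd h (cohInBdd_single P M hM) (cohInBdd_single P M hM)
  have hzD : IsZero (F.mapDerivedCategory.obj ((singleFunctor A 0).obj M)) :=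
    ((singleFunctor B 0).map_isZero hz).of_iso ((F.mapDerivedCategorySingleFunctor 0).app M)
  rw [IsZero.iff_id_eq_zero]
  refine (singleFunctor A 0).map_injective (hb.1 (hzD.eq_of_src _ _))

theorem isLE_of_isLE_map {K : DerivedCategory A} (hK : WSerre.cohIn P K) (c : ℤ)
    (hc : (F.mapDerivedCategory.obj K).IsLE c) : K.IsLE c := by
  rw [DerivedCategory.isLE_iff]
  intro i hi
  obtain ⟨e⟩ := WSerreLib.homology_map_iso F K i
  exact isZero_of_isZero_map h (hK i) ((DerivedCategory.isZero_of_isLE _ c i hi).of_iso e.symm)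

theorem isGE_of_isGE_map {K : DerivedCategory A} (hK : WSerre.cohIn P K) (c : ℤ)
    (hc : (F.mapDerivedCategory.obj K).IsGE c) : K.IsGE c := by
  rw [DerivedCategory.isGE_iff]
  intro i hi
  obtain ⟨e⟩ := WSerreLib.homology_map_iso F K i
  exact isZero_of_isZero_map h (hK i) ((DerivedCategory.isZero_of_isGE _ c i hi).of_iso e.symm)

omit h in
theorem cohIn_truncGE {C : Type u} [Category.{v} C] [Abelian C] [HasDerivedCategory.{w} C] (Q : ObjectProperty C)
    [WSerre.IsWeakSerre Q] {K : DerivedCategory C} (hK : WSerre.cohIn Q K) (c : ℤ) :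
    WSerre.cohIn Q ((TStructure.t.truncGE c).obj K) := fun i => by
  by_cases hi : c ≤ i
  · have := Groth.L10.isIso_H_π c i hi K
    exact Q.prop_of_iso (asIso ((homologyFunctor C i).map ((TStructure.t.truncGEπ c).app K))) (hK i)
  · obtain ⟨Z, hZ, hQZ⟩ := Q.exists_prop_of_containsZero
    exact Q.prop_of_iso (hZ.iso (Groth.L10.isZero_H_GE c i (by omega) K)) hQZ

omit h in
theorem cohIn_truncLT {C : Type u} [Category.{v} C] [Abelian C] [HasDerivedCategory.{w} C] (Q : ObjectProperty C)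
    [WSerre.IsWeakSerre Q] {K : DerivedCategory C} (hK : WSerre.cohIn Q K) (c : ℤ) :
    WSerre.cohIn Q ((TStructure.t.truncLT c).obj K) := fun i => by
  by_cases hi : i < c
  · have := Groth.L10.isIso_H_ι c i hi K
    exact Q.prop_of_iso (asIso ((homologyFunctor C i).map ((TStructure.t.truncLTι c).app K))).symm (hK i)
  · obtain ⟨Z, hZ, hQZ⟩ := Q.exists_prop_of_containsZero
    exact Q.prop_of_iso (hZ.iso (Groth.L10.isZero_H_LT c i (by omega) K)) hQZ

omit h in
theorem isLE_truncGE {C : Type u} [Category.{v} C] [Abelian C] [HasDerivedCategory.{w} C]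
    (K : DerivedCategory C) (b c : ℤ) (hb : K.IsLE b) : ((TStructure.t.truncGE c).obj K).IsLE b := by
  rw [DerivedCategory.isLE_iff]
  intro i hi
  by_cases hc : c ≤ i
  · have := Groth.L10.isIso_H_π c i hc K
    exact (DerivedCategory.isZero_of_isLE K b i hi).of_iso
      (asIso ((homologyFunctor C i).map ((TStructure.t.truncGEπ c).app K))).symm
  · exact Groth.L10.isZero_H_GE c i (by omega) K

omit h in
theorem isGE_truncLT {C : Type u} [Category.{v} C] [Abelian C] [HasDerivedCategory.{w} C]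
    (K : DerivedCategory C) (a c : ℤ) (ha : K.IsGE a) : ((TStructure.t.truncLT c).obj K).IsGE a := by
  rw [DerivedCategory.isGE_iff]
  intro i hi
  by_cases hc : i < c
  · have := Groth.L10.isIso_H_ι c i hc K
    exact (DerivedCategory.isZero_of_isGE K a i hi).of_iso
      (asIso ((homologyFunctor C i).map ((TStructure.t.truncLTι c).app K)))
  · exact Groth.L10.isZero_H_LT c i (by omega) K

/-- The image of a bounded test object does not see objects in high negative degrees. -/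
theorem hom_eq_zero_below {Q₀ : DerivedCategory A} (hQ₀ : WSerre.cohInBdd P Q₀) (c : ℤ)
    (hc : ∀ L : DerivedCategory A, WSerre.cohIn P L → L.IsLE c → ∀ g : Q₀ ⟶ L, g = 0)
    (M : DerivedCategory B) (hM : WSerre.cohIn P' M) (hle : M.IsLE (c - 1))
    [HasProduct fun n : ℕ => (TStructure.t.truncGE (-(n : ℤ))).obj M]
    (hR : CohCx.IsRlimVia _ (TowerStab.tr M) M (fun n => (TStructure.t.truncGEπ (-(n : ℤ))).app M))
    (g : F.mapDerivedCategory.obj Q₀ ⟶ M) : g = 0 := by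
  have hbdd : ∀ K : DerivedCategory B, WSerre.cohInBdd P' K → K.IsLE c →
      ∀ g : F.mapDerivedCategory.obj Q₀ ⟶ K, g = 0 := fun K hK hKc g => by
    obtain ⟨L, hL, ⟨e⟩⟩ := (s15234 F P P' h.map h.ess h.ext).2.2 K hK
    obtain ⟨φ, hφ⟩ := (bijective_bdd h hQ₀ hL).2 (g ≫ e.inv)
    have hLc : L.IsLE c := isLE_of_isLE_map h hL.1 c
      ((DerivedCategory.isLE_iff _ c).2 fun i hi => (DerivedCategory.isZero_of_isLE K c i hi).of_iso
        ((homologyFunctor B i).mapIso e))
    rw [← cancel_mono e.inv, zero_comp, ← hφ]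
    show F.mapDerivedCategory.map φ = 0
    rw [hc L hL.1 hLc φ, Functor.map_zero]
  have hK : ∀ n : ℕ, WSerre.cohInBdd P' ((TStructure.t.truncGE (-(n : ℤ))).obj M) := fun n =>
    ⟨cohIn_truncGE P' hM _, ⟨-(n : ℤ), inferInstanceAs (TStructure.t.IsGE _ _)⟩, ⟨c - 1, isLE_truncGE M _ _ hle⟩⟩
  have hKc : ∀ n : ℕ, ((TStructure.t.truncGE (-(n : ℤ))).obj M).IsLE c := fun n =>
    haveI := isLE_truncGE M (c - 1) (-(n : ℤ)) hle
    TStructure.t.isLE_of_le _ (c - 1) c (by omega)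
  have h0 : ∀ (n : ℕ) (x : F.mapDerivedCategory.obj Q₀ ⟶ (TStructure.t.truncGE (-(n : ℤ))).obj M), x = 0 :=
    fun n x => hbdd _ (hK n) (hKc n) x
  have h1 : ∀ (n : ℕ) (x : (F.mapDerivedCategory.obj Q₀)⟦(1 : ℤ)⟧ ⟶ (TStructure.t.truncGE (-(n : ℤ))).obj M), x = 0 :=
    fun n x => eq_zero_of_shift_eq_zero x fun g' => by
      have hb := isLE_truncGE M (c - 1) (-(n : ℤ)) hle
      haveI := (WSerreLib.cohIn_isTriangulated P').1
      refine hbdd _ ⟨(WSerre.cohIn P').le_shift (-1 : ℤ) _ (hK n).1, ⟨-(n : ℤ) + 1, ?_⟩, ⟨c, ?_⟩⟩ ?_ g'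
      · exact TStructure.t.isGE_shift _ (-(n : ℤ)) (-1) (-(n : ℤ) + 1) (by omega)
      · exact TStructure.t.isLE_shift _ (c - 1) (-1) c (by omega)
      · exact TStructure.t.isLE_shift _ (c - 1) (-1) c (by omega)
  refine (TowerStab.bijective_rlim hR (F.mapDerivedCategory.obj Q₀) 0
    (fun n _ => ⟨fun a b _ => (h0 _ a).trans (h0 _ b).symm, fun b => ⟨0, (h0 _ _).trans (h0 _ b).symm⟩⟩)
    (fun n _ b => ⟨0, (h1 n _).trans (h1 n b).symm⟩)).1 ?_
  exact (h0 0 _).trans (h0 0 _).symm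

/-- Full faithfulness from a bounded test object. -/
theorem bijective_of_test {Q₀ : DerivedCategory A} (hQ₀ : WSerre.cohInBdd P Q₀) (c : ℤ)
    (hc : ∀ L : DerivedCategory A, WSerre.cohIn P L → L.IsLE c → ∀ g : Q₀ ⟶ L, g = 0)
    (hprod : ∀ M : DerivedCategory B, HasProduct fun n : ℕ => (TStructure.t.truncGE (-(n : ℤ))).obj M)
    (hR : ∀ M : DerivedCategory B, WSerre.cohIn P' M →
      haveI := hprod M
      CohCx.IsRlimVia _ (TowerStab.tr M) M (fun n => (TStructure.t.truncGEπ (-(n : ℤ))).app M))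
    {L : DerivedCategory A} (hL : WSerre.cohIn P L) :
    Function.Bijective (fun φ : Q₀ ⟶ L => F.mapDerivedCategory.map φ) := by
  haveI := (WSerreLib.cohIn_isTriangulated P).1
  haveI := hprod
  have hvan : ∀ K : DerivedCategory A, WSerre.cohIn P K → K.IsLE (c - 1) →
      (∀ g : Q₀ ⟶ K, g = 0) ∧ ∀ g : F.mapDerivedCategory.obj Q₀ ⟶ F.mapDerivedCategory.obj K, g = 0 :=
    fun K hK hKle => ⟨hc K hK (TStructure.t.isLE_of_le K (c - 1) c (by omega)),
      hom_eq_zero_below h hQ₀ c hc _ (WSerreLib.cohIn_mapDerivedCategory F P P' h.map K hK)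
        (haveI := hKle; DerivedAdj.isLE_map (w := F) K (c - 1))
        (hR _ (WSerreLib.cohIn_mapDerivedCategory F P P' h.map K hK))⟩
  let D := (TStructure.t.triangleLTGE c).obj L
  have hD : D ∈ distTriang _ := TStructure.t.triangleLTGE_distinguished c L
  have hD₁ : D.obj₁.IsLE (c - 1) := TStructure.t.isLE_truncLT_obj L c (c - 1) (by omega)
  have hD₁' : (D.obj₁⟦(1 : ℤ)⟧).IsLE (c - 1) := by
    have : TStructure.t.IsLE (D.obj₁⟦(1 : ℤ)⟧) (c - 2) := TStructure.t.isLE_shift _ (c - 1) 1 (c - 2) (by omega)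
    exact TStructure.t.isLE_of_le _ (c - 2) (c - 1) (by omega)
  have hP₁ : WSerre.cohIn P D.obj₁ := cohIn_truncLT P hL c
  obtain ⟨a₁, b₁⟩ := hvan _ hP₁ hD₁
  obtain ⟨a₁', b₁'⟩ := hvan _ ((WSerre.cohIn P).le_shift (1 : ℤ) _ hP₁) hD₁'
  refine (map_bijective_iff_of_comp F.mapDerivedCategory D.mor₂ (comp_mor₂_bijective D hD a₁ a₁')
    (comp_mor₂_bijective _ (F.mapDerivedCategory.map_distinguished D hD) b₁ fun g => ?_)).2 ?_
  · rw [← cancel_mono ((F.mapDerivedCategory.commShiftIso (1 : ℤ)).inv.app D.obj₁), zero_comp]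
    exact b₁' _
  obtain ⟨b, hb⟩ := hQ₀.2.2
  haveI : TStructure.t.IsLE Q₀ b := hb
  haveI : (F.mapDerivedCategory.obj Q₀).IsLE b :=
    haveI : Q₀.IsLE b := hb
    DerivedAdj.isLE_map (w := F) Q₀ b
  let E := (TStructure.t.triangleLTGE (b + 2)).obj D.obj₃
  have hE : E ∈ distTriang _ := TStructure.t.triangleLTGE_distinguished (b + 2) D.obj₃
  haveI hE₃ : E.obj₃.IsGE (b + 2) := inferInstanceAs (TStructure.t.IsGE _ _)
  haveI : (E.obj₃⟦(-1 : ℤ)⟧).IsGE (b + 2) := by
    have : TStructure.t.IsGE (E.obj₃⟦(-1 : ℤ)⟧) (b + 3) := TStructure.t.isGE_shift _ (b + 2) (-1) (b + 3) (by omega)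
    exact TStructure.t.isGE_of_ge _ (b + 2) (b + 3) (by omega)
  have hG₃ : (F.mapDerivedCategory.obj E.obj₃).IsGE (b + 2) := DerivedAdj.isGE_map (w := F) _ _
  have hG₃' : (F.mapDerivedCategory.obj (E.obj₃⟦(-1 : ℤ)⟧)).IsGE (b + 2) := DerivedAdj.isGE_map (w := F) _ _
  refine (map_bijective_iff_of_comp F.mapDerivedCategory E.mor₁
    (comp_mor₁_bijective E hE (fun g => TStructure.t.zero g b (b + 2) (by omega))
      (fun g => TStructure.t.zero g b (b + 2) (by omega)))
    (comp_mor₁_bijective _ (F.mapDerivedCategory.map_distinguished E hE)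
      (fun g => TStructure.t.zero_of_isLE_of_isGE g b (b + 2) (by omega) inferInstance hG₃) fun g => ?_)).1 ?_
  · rw [← cancel_mono ((F.mapDerivedCategory.commShiftIso (-1 : ℤ)).inv.app E.obj₃), zero_comp]
    exact TStructure.t.zero_of_isLE_of_isGE _ b (b + 2) (by omega) inferInstance hG₃'
  refine bijective_bdd h hQ₀ ⟨cohIn_truncLT P (cohIn_truncGE P hL c) _, ⟨c, ?_⟩, ⟨b + 1, ?_⟩⟩
  · exact isGE_truncLT _ c _ (inferInstanceAs (TStructure.t.IsGE _ _))
  · exact TStructure.t.isLE_truncLT_obj _ _ _ (by omega)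

end Groth.L17.ComplExt
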