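import Groth.Agent.L17.SheafExt
import Groth.Agent.L09.CohColim.Opens
import Groth.Agent.L15.KFlatSite.ToSheafColim
import Mathlib.AlgebraicGeometry.Morphisms.QuasiSeparated

/-!
# Sections and cohomology of filtered colimits of modules over quasi-compact quasi-separated opens
-/

set_option autoImplicit false
set_option linter.style.haveILetI false
set_option linter.unusedSectionVars false
set_option backward.isDefEq.respectTransparency false
set_option backward.isDefEq.respectTransparency.types false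

universe u

open CategoryTheory CategoryTheory.Limits AlgebraicGeometry TopologicalSpace Opposite Abelian

noncomputable section

namespace Groth.L17.ComplExt

open Groth.L17
open Groth.L10.SiteCoh (fs freeSheafifyIso)

variable {X : Scheme.{u}} {OX : Sheaf (Opens.grothendieckTopology X) CommRingCat.{u}}
  {Λ : Type u} [SmallCategory Λ] [IsFiltered Λ] {D : Λ ⥤ ModSite.Mod OX} {c : Cocone D}

/-- The abelian sheaf of a module. -/
abbrev TS (OX : Sheaf (Opens.grothendieckTopology X) CommRingCat.{u}) : ModSite.Mod OX ⥤ AbSheaf X.toTopCat :=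
  SheafOfModules.toSheaf (ModSite.ringSh OX)

theorem hu_commutes (hc : IsColimit c) {U : X.Opens} (hU : IsCompact (U : Set X)) (hU' : IsQuasiSeparated (U : Set X))
    (n : ℕ) :
    (∀ x : HU (X := X.toTopCat) U ((TS OX).obj c.pt) n, ∃ (j : Λ) (y : HU (X := X.toTopCat) U ((TS OX).obj (D.obj j)) n),
      huMap ((TS OX).map (c.ι.app j)) y = x) ∧
    ∀ (j : Λ) (y : HU (X := X.toTopCat) U ((TS OX).obj (D.obj j)) n), huMap ((TS OX).map (c.ι.app j)) y = 0 →
      ∃ (k : Λ) (f : j ⟶ k), huMap ((TS OX).map (D.map f)) y = 0 := by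
  haveI : PreservesColimitsOfSize.{u, u} (TS OX) := Groth.L15.KFlatSite.preservesColimits_toSheaf _
  have hcomm : Groth.L09.CohColim.Commutes (fs (Opens.grothendieckTopology X) U) n ((TS OX).mapCocone c) :=
    (Groth.L09.CohColim.commutes_HK Groth.L09.CohColim.goodSet_qcqs
      (K := ToposFin.eps (Opens.grothendieckTopology X) U) ⟨U, hU, hU', ⟨Iso.refl _⟩⟩ n (D ⋙ TS OX) _
        (isColimitOfPreserves (TS OX) hc)).of_iso (freeSheafifyIso (yoneda.obj U))
  exact hcomm

theorem sect_commutes (hc : IsColimit c) {U : X.Opens} (hU : IsCompact (U : Set X)) (hU' : IsQuasiSeparated (U : Set X)) :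
    (∀ x : c.pt.val.obj (op U), ∃ (j : Λ) (y : (D.obj j).val.obj (op U)), ((c.ι.app j).val.app (op U)).hom y = x) ∧
    ∀ (j : Λ) (y : (D.obj j).val.obj (op U)), ((c.ι.app j).val.app (op U)).hom y = 0 →
      ∃ (k : Λ) (f : j ⟶ k), ((D.map f).val.app (op U)).hom y = 0 := by
  obtain ⟨h1, h2⟩ := hu_commutes hc hU hU' 0
  refine ⟨fun x => ?_, fun j y hy => ?_⟩
  · obtain ⟨j, η, hη⟩ := h1 ((hu₀ U _).symm (show ((TS OX).obj c.pt).obj.obj (op U) from x))
    exact ⟨j, hu₀ U _ η, ((hu₀_map _ η).symm.trans (congrArg (hu₀ U _) hη)).trans ((hu₀ U _).apply_symm_apply _)⟩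
  · let y' : ((TS OX).obj (D.obj j)).obj.obj (op U) := y
    obtain ⟨k, f, hf⟩ := h2 j ((hu₀ U _).symm y') ((hu₀ U _).injective (by
      rw [hu₀_map, AddEquiv.apply_symm_apply, map_zero]
      exact hy))
    refine ⟨k, f, ?_⟩
    have := congrArg (hu₀ U _) hf
    rw [hu₀_map, AddEquiv.apply_symm_apply, map_zero] at this
    exact this

end Groth.L17.ComplExt
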