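import Groth.Agent.L17.ComplSquare
import Groth.Agent.L17.FSheaf.AlgzCompletion
import Groth.Agent.L09.IndCoh.ComplInd
import Groth.Agent.S3854

/-!
# A completion of a proper scheme over a complete ring, given as a system of closed subschemes
-/

set_option autoImplicit false
set_option linter.style.haveILetI false
set_option linter.unusedSectionVars false
set_option backward.isDefEq.respectTransparency false
set_option backward.isDefEq.respectTransparency.types false

universe u

open CategoryTheory CategoryTheory.Limits AlgebraicGeometry TopologicalSpace Opposite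

noncomputable section

namespace Groth.L17.ComplExt

open Groth.L17.FSheaf

/-- A system of closed subschemes cut out by the powers of the inverse image of an ideal of the base. -/
structure IsCompl {A : Type u} [CommRing A] (I : Ideal A) {X : Scheme.{u}} (f : X ⟶ Spec (CommRingCat.of A))
    (𝔛 : FSch.Sys.{u}) (p : ∀ k, 𝔛.X k ⟶ X) : Prop where
  comm : ∀ k, 𝔛.ι k ≫ p (k + 1) = p k
  closedImmersion : ∀ k, IsClosedImmersion (p k)
  cutBy : CutBy 𝔛 p ((FSch.idealSpec A I).comap f)

/-- The completion along the special fibre. -/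
theorem isCompl_completion {A : Type u} [CommRing A] (I : Ideal A) {X : Scheme.{u}}
    (f : X ⟶ Spec (CommRingCat.of A)) :
    IsCompl I f (FSch.completionAlong X ((FSch.idealSpec A I).comap f))
      (FSch.completionToX X ((FSch.idealSpec A I).comap f)) :=
  ⟨FSch.completionToX_comm X _, isClosedImmersion_completionToX _, cutBy_completionToX _⟩

variable {A : Type u} [CommRing A] {I : Ideal A} {X : Scheme.{u}} (f : X ⟶ Spec (CommRingCat.of A))
  {𝔛 : FSch.Sys.{u}} {p : ∀ k, 𝔛.X k ⟶ X} (hA : IsCompl I f 𝔛 p)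

include hA

theorem ker_p (k : ℕ) : (p k).ker = ((FSch.idealSpec A I).comap f) ^ (k + 1) := by
  haveI := hA.closedImmersion k
  refine Scheme.IdealSheafData.ext (funext fun W => ?_)
  rw [Scheme.Hom.ker_apply, Scheme.IdealSheafData.ideal_pow]
  exact (hA.cutBy k W).2

theorem ker_le (k : ℕ) : ((FSch.idealSpec A I) ^ (k + 1)).subschemeι.ker ≤ (p k ≫ f).ker := by
  rw [Scheme.IdealSheafData.ker_subschemeι, ← Scheme.IdealSheafData.map_ker, Scheme.IdealSheafData.le_map_iff_comap_le,
    Groth.L17.Thick.comap_pow, ker_p f hA]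

/-- The map to the completion of the base, levelwise. -/
abbrev toBaseApp (k : ℕ) : 𝔛.X k ⟶ ((FSch.idealSpec A I) ^ (k + 1)).subscheme :=
  IsClosedImmersion.lift ((FSch.idealSpec A I) ^ (k + 1)).subschemeι (p k ≫ f) (ker_le f hA k)

theorem toBaseApp_fac (k : ℕ) : toBaseApp f hA k ≫ ((FSch.idealSpec A I) ^ (k + 1)).subschemeι = p k ≫ f :=
  IsClosedImmersion.lift_fac _ _ _

/-- The map to the completion of the base. -/
def toBase : 𝔛 ⟶ FSch.completionAlong (Spec (CommRingCat.of A)) (FSch.idealSpec A I) :=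
  ⟨toBaseApp f hA, fun k => by
    change toBaseApp f hA k ≫ Scheme.IdealSheafData.inclusion _ = 𝔛.ι k ≫ toBaseApp f hA (k + 1)
    rw [← cancel_mono ((FSch.idealSpec A I) ^ (k + 1 + 1)).subschemeι]
    simp only [Category.assoc, Scheme.IdealSheafData.inclusion_subschemeι, toBaseApp_fac]
    rw [← Category.assoc, hA.comm]⟩

theorem toBase_sq (k : ℕ) : p k ≫ f = (toBase f hA : FSch.Hom _ _).app k ≫
    FSch.completionToX (Spec (CommRingCat.of A)) (FSch.idealSpec A I) k :=
  (toBaseApp_fac f hA k).symm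

theorem isPullback_level (k : ℕ) : IsPullback (p k) ((toBase f hA : FSch.Hom _ _).app k) f
    (FSch.completionToX (Spec (CommRingCat.of A)) (FSch.idealSpec A I) k) :=
  haveI := hA.closedImmersion k
  haveI := isClosedImmersion_completionToX (FSch.idealSpec A I) k
  isPullback_of_isClosedImmersion _ _ _ _ (toBase_sq f hA k)
    (((congrArg (fun J => Scheme.IdealSheafData.comap J f)
      (Scheme.IdealSheafData.ker_subschemeι ((FSch.idealSpec A I) ^ (k + 1)))).trans
        (Groth.L17.Thick.comap_pow f (FSch.idealSpec A I) (k + 1))).trans (ker_p f hA k).symm)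

theorem isProperHom_toBase [IsProper f] : FSch.IsProperHom (toBase f hA) := by
  refine ⟨fun k => ?_, MorphismProperty.of_isPullback (P := @IsProper) (isPullback_level f hA 0) ‹IsProper f›⟩
  refine IsPullback.of_right ?_ ((toBase f hA : FSch.Hom _ _).comm k).symm (isPullback_level f hA (k + 1))
  rw [hA.comm, FSch.completionToX_comm]
  exact isPullback_level f hA k

open Groth.L09.IndCoh in
/-- The completion functor: bijective on maps of quasi-coherent modules; its image. -/
theorem indCoh [IsNoetherianRing A] [IsAdicComplete I A] [IsProper f] (hX : 𝔛.IsLocNoethFormal) :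
    (∀ G H : X.Modules, SheafOfModules.IsQuasicoherent.{u} G → SheafOfModules.IsQuasicoherent.{u} H →
      Function.Bijective (fun φ : G ⟶ H => (kap 𝔛 hX.1 p hA.comm).pull.map φ)) ∧
    ∀ 𝔉 : FSch.ModF 𝔛 hX.1,
      (ObjectProperty.ind.{u} fun 𝔊 : FSch.ModF 𝔛 hX.1 => FSch.IsCohF 𝔛 hX.1 𝔊) 𝔉 ↔
      ∃ G : X.Modules, SheafOfModules.IsQuasicoherent.{u} G ∧ Nonempty ((kap 𝔛 hX.1 p hA.comm).pull.obj G ≅ 𝔉) := by
  letI : X.Over (Spec (CommRingCat.of A)) := ⟨f⟩
  haveI : IsProper (X ↘ Spec (CommRingCat.of A)) := ‹IsProper f›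
  haveI : IsLocallyNoetherian X := LocallyOfFiniteType.isLocallyNoetherian f
  haveI : CompactSpace X := QuasiCompact.compactSpace_of_compactSpace f
  haveI : AlgebraicGeometry.IsNoetherian X := ⟨⟩
  have hp := hA.comm
  have hcl := hA.closedImmersion
  have hcut := cutOver_of_cutBy I f _ rfl 𝔛 p hA.cutBy (idealSpec_ideal_top I)
  haveI := hcl 0
  haveI : CompactSpace (𝔛.X 0) := QuasiCompact.compactSpace_of_compactSpace (p 0)
  let κ := kap 𝔛 hX.1 p hp
  haveI : κ.pull.IsLeftAdjoint := κ.adj.isLeftAdjoint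
  haveI : PreservesColimitsOfSize.{u, u} κ.pull := κ.adj.leftAdjoint_preservesColimits
  haveI := Groth.L10.shMod_isGrothendieckAbelian (ModSite.ringSh X.sheaf)
  have hP : ∀ c, cohP X c → IsFinitelyPresentable.{u} c := fun c hc => isFinitelyPresentable_isCoh X c hc
  have hFP : ∀ c, cohP X c → IsFinitelyPresentable.{u} (κ.pull.obj c) := fun c hc =>
    isFinitelyPresentable_coh hX _ (isCohF_pull _ p hp c hX hc)
  have hff : ∀ c c', cohP X c → cohP X c' → Function.Bijective (fun φ : c ⟶ c' => κ.pull.map φ) :=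
    fun c c' hc hc' => kap_bijective I hp hcl hcut hX hc hc'
  refine ⟨fun G H hG hH => Groth.L09.IndLan.bijective_ind κ.pull hP hFP hff
    ((qcoh_iff_ind X G).1 hG) ((qcoh_iff_ind X H).1 hH), fun 𝔉 => ⟨fun h𝔉 => ?_, ?_⟩⟩
  · have hQ : ∀ d, FSch.IsCohF 𝔛 hX.1 d → ∃ c, cohP X c ∧ Nonempty (κ.pull.obj c ≅ d) := by
      intro d hd
      haveI : IsProper (𝟙 X ≫ f) := by rw [Category.id_comp]; infer_instance
      obtain ⟨G, hG, -, ⟨e⟩⟩ := exists_algebraization I f 𝔛 hX p hp hcl hcut d hd
        ⟨Set.univ, by simpa using Groth.L17.ProperOver.isProperOver_range f (𝟙 X), fun x hx => absurd trivial hx⟩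
      obtain ⟨e', -⟩ := exists_pull_iso_pullSys 𝔛 p hp G hX hG
      exact ⟨G, hG, ⟨e' ≪≫ e.symm⟩⟩
    obtain ⟨G, hG, he⟩ := Groth.L09.IndLan.exists_of_ind_map κ.pull hP hFP hff hQ h𝔉
    exact ⟨G, (qcoh_iff_ind X G).2 hG, he⟩
  · rintro ⟨G, hG, ⟨e⟩⟩
    obtain ⟨J, _, hJ, pres, hp'⟩ := (qcoh_iff_ind X G).1 hG
    exact ⟨J, inferInstance, hJ, (pres.map κ.pull).ofIso e, fun j => isCohF_pull _ p hp _ hX (hp' j)⟩

end Groth.L17.ComplExt
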