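import Groth.Agent.L17.ComplExt.CohBC
import Groth.Agent.L17.ComplExt.SectColim
import Groth.Agent.L17.FSheaf.RpushBC
import Groth.Agent.L17.FSheaf.SpfCut
import Groth.Agent.L17.IndRpush.CohAcyclic
import Groth.Agent.L17.ProperCoh
import Groth.Agent.L17.ComplExt.Setting
import Groth.Agent.L09.IndCoh.ComplInd
import Groth.Agent.L09.IndCoh.Cov
import Groth.Agent.S3854

/-!
# Completion does not create cohomology on a proper scheme over a complete ring
-/

set_option autoImplicit false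
set_option linter.style.haveILetI false
set_option linter.unusedSectionVars false
set_option backward.isDefEq.respectTransparency false
set_option backward.isDefEq.respectTransparency.types false
set_option maxHeartbeats 400000

universe u

open CategoryTheory CategoryTheory.Limits AlgebraicGeometry TopologicalSpace Opposite

noncomputable section

namespace Groth.L17.ComplExt

open Groth.L17 Groth.L17.FSheaf Groth.L17.RpushSect Groth.L17.FSheaf.RpushF Groth.L17.FSheaf.RpushComp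

theorem puEquiv_natural {X Y : TopCat.{u}} {OX : Sheaf (Opens.grothendieckTopology X) CommRingCat.{u}}
    {OY : Sheaf (Opens.grothendieckTopology Y) CommRingCat.{u}} (φ : ModSite.RMor OX OY)
    [HasInjectiveResolutions (ModSite.Mod OX)] (q : ℕ) (V : Opens Y) {M N : ModSite.Mod OX} (g : M ⟶ N)
    (x : (PU φ q V).obj M) :
    puEquiv φ q V N ((PU φ q V).map g x) =
      huMap ((SheafOfModules.toSheaf.{u} (ModSite.ringSh OX)).map g) (puEquiv φ q V M x) := by
  haveI : PreservesFiniteColimits (SheafOfModules.toSheaf.{u} (ModSite.ringSh OX)) :=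
    Groth.L15.ExtSupp.preservesFiniteColimits_toSheaf
  simp only [puEquiv, AddEquiv.trans_apply]
  refine Eq.trans ?_ (ExtExact.equiv_naturality (SheafOfModules.toSheaf.{u} (ModSite.ringSh OX)) _
    (fun I hI m => subsingleton_hu_of_injective OX I (φ.fn.obj V) m) g q _)
  congr 1
  exact ConcreteCategory.congr_hom ((Groth.L10.SiteCoh.rightDerivedCongr
    (show φ.push ⋙ secM OY V ≅ _ from secIsoCoy OX (φ.fn.obj V)) q).hom.naturality g) x

variable (A : Type u) [CommRing A] [IsNoetherianRing A] (I : Ideal A) [IsAdicComplete I A]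

/-- All functions on the completion of the spectrum of a complete ring are functions on the spectrum. -/
theorem surjective_shp_top (h : (FSch.completionAlong (Spec (CommRingCat.of A)) (FSch.idealSpec A I)).IsFormal) :
    Function.Surjective (shp _ h (FSch.completionToX (Spec (CommRingCat.of A)) (FSch.idealSpec A I))
      (FSch.completionToX_comm (Spec (CommRingCat.of A)) (FSch.idealSpec A I)) ⊤) := by
  intro s
  let Y := Spec (CommRingCat.of A)
  let 𝔜 := FSch.completionAlong Y (FSch.idealSpec A I)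
  let r := FSch.completionToX Y (FSch.idealSpec A I)
  have hr := FSch.completionToX_comm Y (FSch.idealSpec A I)
  have hcutA := cutA_completion I
  let σ : A →+* Γ(Y, ⊤) := (Scheme.ΓSpecIso (CommRingCat.of A)).inv.hom
  have hUeq : ∀ k, 𝔜.lvU h k (pU 𝔜 r ⊤) = r k ⁻¹ᵁ ⊤ := fun k => (FSch.lvU_p 𝔜 h r hr k ⊤).symm
  have hsurj : ∀ k, ∃ a : A, pR 𝔜 h k (pU 𝔜 r ⊤) s =
      ((r k).appLE ⊤ (𝔜.lvU h k (pU 𝔜 r ⊤)) (pU_le 𝔜 h r hr k ⊤)).hom (σ a) := fun k => by
    obtain ⟨z, hz⟩ := appLE_surjective_of_eq (r k) (hUeq k)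
      (cutBy_completionToX (FSch.idealSpec A I) k ⟨⊤, isAffineOpen_top _⟩).1 (pR 𝔜 h k (pU 𝔜 r ⊤) s)
    exact ⟨(Scheme.ΓSpecIso (CommRingCat.of A)).hom z, by
      rw [show σ ((Scheme.ΓSpecIso (CommRingCat.of A)).hom z) = z from
        ConcreteCategory.congr_hom (Scheme.ΓSpecIso (CommRingCat.of A)).hom_inv_id z]
      exact hz.symm⟩
  choose a ha using hsurj
  let g : ∀ k, A →+* Γ(𝔜.X k, 𝔜.lvU h k (pU 𝔜 r ⊤)) := fun k =>
    (pR 𝔜 h k (pU 𝔜 r ⊤)).comp ((shp 𝔜 h r hr ⊤).comp σ)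
  have hg : ∀ k x, g k x = ((r k).appLE ⊤ (𝔜.lvU h k (pU 𝔜 r ⊤)) (pU_le 𝔜 h r hr k ⊤)).hom (σ x) :=
    fun k x => pR_shp 𝔜 h r hr k ⊤ (σ x)
  have hker : ∀ k, RingHom.ker (g k) = I ^ (k + 1) := fun k => by
    rw [← (hcutA k).2.2]
    ext x
    rw [RingHom.mem_ker, RingHom.mem_ker, hg, ← RingHom.mem_ker, ker_appLE (r k) (hUeq k), RingHom.mem_ker]
    rfl
  have hag : ∀ k, pR 𝔜 h k (pU 𝔜 r ⊤) s = g k (a k) := fun k => (ha k).trans (hg k _).symm
  have hstep : ∀ k, a (k + 1) - a k ∈ I ^ (k + 1) := fun k => by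
    rw [← hker k, RingHom.mem_ker, map_sub, sub_eq_zero, ← hag k]
    have := congrArg (tR 𝔜 h k (pU 𝔜 r ⊤)) (hag (k + 1))
    simp only [g, RingHom.comp_apply, tR_pR] at this
    exact this.symm
  have hmono : ∀ i j, i ≤ j → a j - a i ∈ I ^ (i + 1) := fun i j hij => by
    induction j, hij using Nat.le_induction with
    | base => simp
    | succ j hij ih =>
      have := Ideal.add_mem _ (Ideal.pow_le_pow_right (Nat.succ_le_succ hij) (hstep j)) ih
      simpa using this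
  obtain ⟨L, hL⟩ := IsPrecomplete.prec (inferInstance : IsPrecomplete I A) (f := a) (fun {m n} hmn => by
    rw [SModEq.sub_mem, smul_eq_mul, Ideal.mul_top]
    have := Ideal.neg_mem_iff _ |>.2 (Ideal.pow_le_pow_right m.le_succ (hmono m n hmn))
    simpa using this)
  refine ⟨σ L, pR_ext 𝔜 h fun k => ?_⟩
  have h1 := hL (k + 1)
  rw [SModEq.sub_mem, smul_eq_mul, Ideal.mul_top] at h1
  rw [hag k]
  show g k L = g k (a k)
  rw [← sub_eq_zero, ← map_sub, ← RingHom.mem_ker, hker]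
  have := Ideal.sub_mem _ (hstep k) h1
  simpa using this

variable {A I} {X : Scheme.{u}} (f : X ⟶ Spec (CommRingCat.of A)) [IsProper f]

variable {𝔛 : FSch.Sys.{u}} {p : ∀ k, 𝔛.X k ⟶ X} (hA : IsCompl I f 𝔛 p)
  (hX : 𝔛.IsLocNoethFormal) [IsLocallyNoetherian X] [HasInjectiveResolutions (ModSite.Mod X.sheaf)] (n : ℕ)

/-- Classes of the completion of a coherent module come from the module. -/
theorem surjective_map_unit_coh {G : X.Modules} (hG : Coh.IsCoh G) :
    Function.Surjective ((PU (ModSite.RMor.ofScheme f) n ⊤).map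
      ((kap 𝔛 hX.1 p hA.comm).adj.unit.app G)) := by
  classical
  let Y := Spec (CommRingCat.of A)
  let 𝓘 := FSch.idealSpec A I
  let 𝔜 := FSch.completionAlong Y 𝓘
  let r := FSch.completionToX Y 𝓘
  have hr := FSch.completionToX_comm Y 𝓘
  have hY : 𝔜.IsLocNoethFormal := Groth.Agent.S3854.result Y 𝓘
  have hp := hA.comm
  let κ := kap 𝔛 hX.1 p hp
  let φ := toBase f hA
  have hsq := toBase_sq f hA
  have hcl := hA.closedImmersion
  haveI := hcl 0
  haveI := isClosedImmersion_completionToX 𝓘 0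
  have hcut := hA.cutBy
  have hcutY := cutBy_completionToX 𝓘
  haveI := preservesFiniteColimits_pushKap hX.1 p hp
  haveI := preservesInjective_pushKap hX.1 p hp hcut
  haveI : HasInjectiveResolutions (FSch.ModF 𝔛 hX.1) :=
    haveI : IsGrothendieckAbelian.{u} (FSch.ModF 𝔛 hX.1) := Groth.L10.shMod_isGrothendieckAbelian _
    inferInstance
  have hφ : FSch.IsProperHom φ := isProperHom_toBase f hA
  have hN : ∀ q, Coh.IsCoh (show Y.Modules from RpushBC.Nq f G q) := fun q => ProperCoh.isCoh_Rpush f G hG q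
  obtain ⟨eY, heY⟩ := exists_pull_iso_pullSys 𝔜 r hr (show Y.Modules from RpushBC.Nq f G n) hY (hN n)
  have hU : IsAffineOpen (pU 𝔜 r (⊤ : Y.Opens)) := isAffineOpen_pU 𝔜 r (isAffineOpen_top Y)
  -- sections of the comparison are onto
  have hη : Function.Surjective (eta 𝔜 hY.1 r hr (show Y.Modules from RpushBC.Nq f G n) eY ⊤) := by
    intro t
    obtain ⟨t', rfl⟩ : ∃ t', (eY.hom.val.app (op (pU 𝔜 r (⊤ : Y.Opens)))).hom t' = t :=
      ⟨(eY.inv.val.app (op (pU 𝔜 r (⊤ : Y.Opens)))).hom t,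
        LinearMap.congr_fun (congrArg (fun t => (SheafOfModules.Hom.val t).app (op (pU 𝔜 r (⊤ : Y.Opens))) |>.hom)
          eY.inv_hom_id) t⟩
    letI : Algebra Γ(Y, ⊤) (O 𝔜 hY.1 (pU 𝔜 r ⊤)) := algShp 𝔜 hY.1 r hr ⊤
    letI := modShp 𝔜 hY.1 r hr ⊤ (CS 𝔜 hY.1 r hr (show Y.Modules from RpushBC.Nq f G n) ⊤)
    haveI : IsScalarTower Γ(Y, ⊤) (O 𝔜 hY.1 (pU 𝔜 r ⊤))
        (CS 𝔜 hY.1 r hr (show Y.Modules from RpushBC.Nq f G n) ⊤) := IsScalarTower.of_algebraMap_smul fun _ _ => rfl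
    have hbc : IsBaseChange (O 𝔜 hY.1 (pU 𝔜 r ⊤)) (unitSec 𝔜 hY.1 r hr (show Y.Modules from RpushBC.Nq f G n) ⊤) :=
      isBCAt_coh hr hY hcutY (hN n) (isAffineOpen_top Y)
    suffices ∃ m, unitSec 𝔜 hY.1 r hr (show Y.Modules from RpushBC.Nq f G n) ⊤ m = t' by
      obtain ⟨m, hm⟩ := this
      exact ⟨m, congrArg (eY.hom.val.app (op (pU 𝔜 r (⊤ : Y.Opens)))).hom hm⟩
    induction t' using hbc.inductionOn with
    | zero => exact ⟨0, map_zero _⟩
    | tmul m => exact ⟨m, rfl⟩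
    | smul s x ih =>
      obtain ⟨m, rfl⟩ := ih
      obtain ⟨b, rfl⟩ := surjective_shp_top A I hY.1 s
      exact ⟨b • m, map_smul _ b m⟩
    | add x y ihx ihy =>
      obtain ⟨m, rfl⟩ := ihx
      obtain ⟨m', rfl⟩ := ihy
      exact ⟨m + m', map_add _ m m'⟩
  have hS : Function.Surjective (RpushBC.φS f φ hX hY p hp r hr hsq G n ⊤) := fun y => by
    obtain ⟨t, rfl⟩ := (RpushBC.bijective_ΨR f φ hX hY p hp r hr hsq G n hG hφ hcl hcut hcutY (hN n) eY heY
      (isAffineOpen_top Y)).2 y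
    obtain ⟨m, rfl⟩ := hη t
    exact ⟨m, (RpushBC.ΨR_eta f φ hX hY p hp r hr hsq G n eY ⊤ m).symm⟩
  have hΦ : Function.Bijective ((ΦV (ModSite.RMor.ofScheme f) n ⊤).app G) :=
    bijective_ΦV _ n ⊤ G fun m k x => by
      haveI : Coh.IsQCoh (show Y.Modules from RpushBC.Nq f G m) := (hN m).1
      exact hu_affine_eq_zero _ (isAffineOpen_top Y) k x
  have hΦs : Function.Bijective (Φs hX hY φ n (V := pU 𝔜 r ⊤) (RpushBC.compl hX p hp G)) :=
    bijective_ΦV _ n _ _ fun m k x => by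
      obtain ⟨e⟩ := RpushBC.nonempty_iso f φ hX hY p hp r hr hsq G m hG hφ hcl hcut hcutY (hN m)
      have hc : FSch.IsCohF 𝔜 hY.1 ((RQ hX hY φ m).obj (RpushBC.compl hX p hp G)) :=
        Groth.L09.IndCoh.isCohF_of_iso hY (isCohF_pull 𝔜 r hr (show Y.Modules from RpushBC.Nq f G m) hY (hN m)) e
      exact Groth.L17.IndRpush.acyclicOn_coh hY hc _ hU k x
  intro z
  obtain ⟨m, hm⟩ := hS (Φs hX hY φ n (V := pU 𝔜 r ⊤) (RpushBC.compl hX p hp G)
    ((cl f φ hX.1 hY.1 p hp r hr hsq n ⊤).app (RpushBC.compl hX p hp G) z))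
  obtain ⟨x, rfl⟩ := hΦ.2 m
  refine ⟨x, (bijective_cl f φ hX.1 hY.1 p hp r hr hsq n ⊤ _).1 (hΦs.1 ?_)⟩
  refine Eq.trans (Eq.symm ?_) hm
  exact (congrArg (((cmpR f φ hX.1 hY.1 p hp r hr hsq n).app (RpushBC.compl hX p hp G)).val.app (op (⊤ : Y.Opens))).hom
    (ConcreteCategory.congr_hom ((ΦV (ModSite.RMor.ofScheme f) n ⊤).naturality (κ.adj.unit.app G)) x).symm).trans
      (cmpR_ΦV f φ hX.1 hY.1 p hp r hr hsq n ⊤ (RpushBC.compl hX p hp G) _)

/-- Classes of the completion of a quasi-coherent module come from the module. -/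
theorem surjective_map_unit_qcoh {G : X.Modules} (hG : Coh.IsQCoh G) :
    Function.Surjective ((PU (ModSite.RMor.ofScheme f) n ⊤).map
      ((kap 𝔛 hX.1 p hA.comm).adj.unit.app G)) := by
  haveI : CompactSpace X := QuasiCompact.compactSpace_of_compactSpace f
  haveI : AlgebraicGeometry.IsNoetherian X := {}
  let Y := Spec (CommRingCat.of A)
  let 𝓘 := FSch.idealSpec A I
  let 𝔜 := FSch.completionAlong Y 𝓘
  let r := FSch.completionToX Y 𝓘
  have hr := FSch.completionToX_comm Y 𝓘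
  have hY : 𝔜.IsLocNoethFormal := Groth.Agent.S3854.result Y 𝓘
  have hp := hA.comm
  let κ := kap 𝔛 hX.1 p hp
  let φ := toBase f hA
  have hsq := toBase_sq f hA
  haveI := hA.closedImmersion 0
  haveI := preservesFiniteColimits_pushKap hX.1 p hp
  haveI := preservesInjective_pushKap hX.1 p hp hA.cutBy
  haveI : HasInjectiveResolutions (FSch.ModF 𝔛 hX.1) :=
    haveI : IsGrothendieckAbelian.{u} (FSch.ModF 𝔛 hX.1) := Groth.L10.shMod_isGrothendieckAbelian _
    inferInstance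
  haveI : PreservesColimitsOfSize.{u, u} κ.pull := κ.adj.leftAdjoint_preservesColimits
  obtain ⟨Λ, _, hΛ, pres, hpres⟩ := (Groth.L09.IndCoh.qcoh_iff_ind X G).1 hG
  haveI := hX.2.2 0
  haveI : CompactSpace (𝔛.X 0) := QuasiCompact.compactSpace_of_compactSpace (p 0)
  have hc : IsCompact (((FSch.homMor φ hX.1 hY.1).fn.obj (pU 𝔜 r (⊤ : Y.Opens)) : (𝔛.X 0).Opens) :
      Set (𝔛.X 0)) := isCompact_univ
  obtain ⟨hsurj, -⟩ := hu_commutes (X := 𝔛.X 0) (OX := 𝔛.Osh hX.1)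
    (isColimitOfPreserves κ.pull pres.isColimit) (U := (FSch.homMor φ hX.1 hY.1).fn.obj (pU 𝔜 r (⊤ : Y.Opens)))
    hc isQuasiSeparated_univ n
  intro z
  have hcl := bijective_cl f φ hX.1 hY.1 p hp r hr hsq n ⊤
  let P := PU (FSch.homMor φ hX.1 hY.1) n (pU 𝔜 r (⊤ : Y.Opens))
  obtain ⟨j, y, hy⟩ := hsurj (puEquiv (FSch.homMor φ hX.1 hY.1) n (pU 𝔜 r ⊤) _
    ((cl f φ hX.1 hY.1 p hp r hr hsq n ⊤).app (κ.pull.obj G) z))
  let G' : X.Modules := pres.diag.obj j
  let ι : G' ⟶ G := pres.ι.app j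
  obtain ⟨y', rfl⟩ := (puEquiv (FSch.homMor φ hX.1 hY.1) n (pU 𝔜 r ⊤) (κ.pull.obj G')).surjective y
  obtain ⟨z', rfl⟩ := (hcl (κ.pull.obj G')).2 y'
  obtain ⟨x, rfl⟩ := surjective_map_unit_coh f hA hX n (hpres j) z'
  refine ⟨(PU (ModSite.RMor.ofScheme f) n ⊤).map ι x, (hcl (κ.pull.obj G)).1
    ((puEquiv (FSch.homMor φ hX.1 hY.1) n (pU 𝔜 r ⊤) _).injective (Eq.trans ?_ hy))⟩
  refine Eq.trans (congrArg _ ?_) (puEquiv_natural (FSch.homMor φ hX.1 hY.1) n (pU 𝔜 r ⊤) (κ.pull.map ι) _)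
  refine Eq.trans ?_ (ConcreteCategory.congr_hom ((cl f φ hX.1 hY.1 p hp r hr hsq n ⊤).naturality (κ.pull.map ι)) _)
  refine congrArg ((cl f φ hX.1 hY.1 p hp r hr hsq n ⊤).app (κ.pull.obj G)) ?_
  show ((PU (ModSite.RMor.ofScheme f) n ⊤).map ι ≫ (PU (ModSite.RMor.ofScheme f) n ⊤).map (κ.adj.unit.app G)) x =
    ((PU (ModSite.RMor.ofScheme f) n ⊤).map (κ.adj.unit.app G') ≫
      (PU (ModSite.RMor.ofScheme f) n ⊤).map (κ.push.map (κ.pull.map ι))) x
  exact ConcreteCategory.congr_hom (((PU (ModSite.RMor.ofScheme f) n ⊤).map_comp _ _).symm.trans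
    ((congrArg (PU (ModSite.RMor.ofScheme f) n ⊤).map (κ.adj.unit.naturality ι)).trans
      ((PU (ModSite.RMor.ofScheme f) n ⊤).map_comp _ _))) x

/-- A quasi-coherent module without cohomology keeps this property after completion. -/
theorem hu_MC_eq_zero {G : X.Modules} (hG : Coh.IsQCoh G)
    (h0 : ∀ y : HU (X := X.toTopCat) ⊤ ((SheafOfModules.toSheaf (ModSite.ringSh X.sheaf)).obj G) n, y = 0)
    (y : HU (X := X.toTopCat) ⊤ ((SheafOfModules.toSheaf (ModSite.ringSh X.sheaf)).obj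
      ((kap 𝔛 hX.1 p hA.comm).push.obj
        ((kap 𝔛 hX.1 p hA.comm).pull.obj G))) n) : y = 0 := by
  obtain ⟨z, rfl⟩ := (puEquiv (ModSite.RMor.ofScheme f) n ⊤ _).surjective y
  obtain ⟨x, rfl⟩ := surjective_map_unit_qcoh f hA hX n hG z
  refine (puEquiv_natural (ModSite.RMor.ofScheme f) n ⊤ _ x).trans ?_
  exact (congrArg _ (h0 _)).trans (LimCoh.huMap_zero _)

end Groth.L17.ComplExt
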