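import Groth.Agent.L20.ModStalk
import Mathlib.Algebra.Module.Injective
import Mathlib.LinearAlgebra.TensorProduct.Tower
import Mathlib.RingTheory.Flat.Basic
import Mathlib.AlgebraicGeometry.Morphisms.Flat
import Mathlib.AlgebraicGeometry.Noetherian

/-!
# Modules with injective sections over affine opens have injective stalks
-/

set_option autoImplicit false
set_option linter.style.haveILetI false
set_option linter.unusedSectionVars false
set_option backward.isDefEq.respectTransparency false
set_option backward.isDefEq.respectTransparency.types false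

universe u

open CategoryTheory AlgebraicGeometry TopologicalSpace Opposite TensorProduct

noncomputable section

namespace Groth.L17.ComplExt

open Groth.L18.Frame (rs ro rs_smul)
open Groth.L20.ModStalk (germ_rs germ_smul)

/-- A module that is injective over a flat algebra is injective. -/
theorem injective_restrictScalars_of_flat {R S : Type u} [CommRing R] [CommRing S] [Algebra R S] [Module.Flat R S]
    (T : Type u) [AddCommGroup T] [Module R T] [Module S T] [IsScalarTower R S T] (hT : Module.Injective S T) :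
    Module.Injective R T := by
  refine Module.Baer.injective fun 𝔞 φ => ?_
  let ι : S ⊗[R] 𝔞 →ₗ[S] S ⊗[R] R := (𝔞.subtype).baseChange S
  have hι : Function.Injective ι := Module.Flat.lTensor_preserves_injective_linearMap 𝔞.subtype Subtype.val_injective
  obtain ⟨ψ, hψ⟩ := hT.out ι hι (φ.liftBaseChange S)
  refine ⟨(ψ.restrictScalars R).comp (TensorProduct.mk R S R 1), fun x hx => ?_⟩
  have h := hψ ((1 : S) ⊗ₜ[R] (⟨x, hx⟩ : 𝔞))
  simp only [ι, LinearMap.baseChange_tmul, LinearMap.liftBaseChange_tmul, one_smul] at h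
  exact h

variable {X : Scheme.{u}} (M : X.Modules)

/-- Sections over affine opens injective, injective stalks. -/
theorem injective_stalk_of_affine [IsLocallyNoetherian X]
    (hM : ∀ W : X.Opens, IsAffineOpen W → Module.Injective Γ(X, W) Γ(M, W)) (x : X) :
    Module.Injective (X.presheaf.stalk x) (M.presheaf.stalk x) := by
  refine Module.Baer.injective fun 𝔞 φ => ?_
  haveI : IsNoetherianRing (X.presheaf.stalk x) := inferInstance
  obtain ⟨n, a, ha⟩ := Submodule.fg_iff_exists_fin_generating_family.1 (IsNoetherian.noetherian 𝔞)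
  have hmem : ∀ i, a i ∈ 𝔞 := fun i => by
    rw [← ha]
    exact Submodule.subset_span ⟨i, rfl⟩
  -- common representatives
  have hrep : ∀ (ι : Finset (Fin n)), ∃ (V : X.Opens) (_ : x ∈ V), IsAffineOpen V ∧
      ∀ i ∈ ι, ∃ (r : Γ(X, V)) (m : Γ(M, V)) (hx : x ∈ V), X.presheaf.germ V x hx r = a i ∧
        M.presheaf.germ V x hx m = φ ⟨a i, hmem i⟩ := by
    classical
    intro ι
    induction ι using Finset.induction_on with
    | empty =>
      obtain ⟨V, hV, hxV, -⟩ := exists_isAffineOpen_mem_and_subset (x := x) (U := ⊤) trivial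
      exact ⟨V, hxV, hV, fun i hi => absurd hi (Finset.notMem_empty i)⟩
    | insert j ι _ ih =>
      obtain ⟨V, hxV, -, h⟩ := ih
      obtain ⟨U₁, hx₁, r₁, hr₁⟩ := TopCat.Presheaf.exists_germ_eq X.presheaf (a j)
      obtain ⟨U₂, hx₂, m₂, hm₂⟩ := TopCat.Presheaf.exists_germ_eq M.presheaf (φ ⟨a j, hmem j⟩)
      obtain ⟨W, hW, hxW, hle⟩ := exists_isAffineOpen_mem_and_subset
        (show x ∈ V ⊓ U₁ ⊓ U₂ from ⟨⟨hxV, hx₁⟩, hx₂⟩)
      have h1 : W ≤ U₁ := fun y hy => (hle hy).1.2
      have h2 : W ≤ U₂ := fun y hy => (hle hy).2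
      have h0 : W ≤ V := fun y hy => (hle hy).1.1
      refine ⟨W, hxW, hW, fun i hi => ?_⟩
      rcases Finset.mem_insert.1 hi with rfl | hi
      · exact ⟨ro h1 r₁, rs M h2 m₂, hxW, (TopCat.Presheaf.germ_res_apply X.presheaf _ x hxW r₁).trans hr₁,
          (germ_rs M h2 hxW m₂).trans hm₂⟩
      · obtain ⟨r, m, hx, hr, hm⟩ := h i hi
        exact ⟨ro h0 r, rs M h0 m, hxW, (TopCat.Presheaf.germ_res_apply X.presheaf _ x hxW r).trans hr,
          (germ_rs M h0 hxW m).trans hm⟩
  obtain ⟨V, hxV, hV, hVi⟩ := hrep Finset.univ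
  choose r m hx' hr hm using fun i => hVi i (Finset.mem_univ i)
  haveI : IsNoetherianRing Γ(X, V) := IsLocallyNoetherian.component_noetherian ⟨V, hV⟩
  -- relations
  let π : (Fin n → Γ(X, V)) →ₗ[Γ(X, V)] Γ(X, V) := Fintype.linearCombination _ r
  let μ : (Fin n → Γ(X, V)) →ₗ[Γ(X, V)] Γ(M, V) := Fintype.linearCombination _ m
  obtain ⟨k, c, hc⟩ := Submodule.fg_iff_exists_fin_generating_family.1 (IsNoetherian.noetherian (LinearMap.ker π))
  have hgerm : ∀ j, M.presheaf.germ V x hxV (μ (c j)) = 0 := fun j => by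
    have hcj : π (c j) = 0 := LinearMap.mem_ker.1 (hc ▸ Submodule.subset_span ⟨j, rfl⟩)
    rw [Fintype.linearCombination_apply] at hcj ⊢
    rw [map_sum]
    simp only [germ_smul, hm]
    have h0 : ∑ i, X.presheaf.germ V x hxV (c j i) • (⟨a i, hmem i⟩ : 𝔞) = 0 := Subtype.ext (by
      have := congrArg (X.presheaf.germ V x hxV) hcj
      rw [map_sum, map_zero] at this
      rw [AddSubmonoidClass.coe_finsetSum, ZeroMemClass.coe_zero]
      refine (Finset.sum_congr rfl fun i _ => ?_).trans this
      simp [smul_eq_mul, hr])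
    rw [← map_zero φ, ← h0, map_sum]
    exact Finset.sum_congr rfl fun i _ => (map_smul φ _ _).symm
  obtain ⟨W, hW, hxW, hWV, hWc⟩ : ∃ (W : X.Opens), IsAffineOpen W ∧ x ∈ W ∧ ∃ h : W ≤ V, ∀ j, rs M h (μ (c j)) = 0 := by
    classical
    suffices h : ∀ ι : Finset (Fin k), ∃ (W : X.Opens), IsAffineOpen W ∧ x ∈ W ∧ ∃ h : W ≤ V,
        ∀ j ∈ ι, rs M h (μ (c j)) = 0 by
      obtain ⟨W, hW, hxW, h, hj⟩ := h Finset.univ
      exact ⟨W, hW, hxW, h, fun j => hj j (Finset.mem_univ j)⟩
    intro ι
    induction ι using Finset.induction_on with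
    | empty => exact ⟨V, hV, hxV, le_rfl, fun j hj => absurd hj (Finset.notMem_empty j)⟩
    | insert j ι _ ih =>
      obtain ⟨W, -, hxW, h, hι⟩ := ih
      obtain ⟨U', hxU', iU, iV, he⟩ := TopCat.Presheaf.germ_eq M.presheaf x hxV hxV (μ (c j)) 0
        ((hgerm j).trans (map_zero _).symm)
      obtain ⟨W', hW', hxW', hle⟩ := exists_isAffineOpen_mem_and_subset (show x ∈ W ⊓ U' from ⟨hxW, hxU'⟩)
      have h1 : W' ≤ W := fun y hy => (hle hy).1
      have h2 : W' ≤ U' := fun y hy => (hle hy).2
      refine ⟨W', hW', hxW', h1.trans h, fun i hi => ?_⟩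
      rcases Finset.mem_insert.1 hi with rfl | hi
      · rw [map_zero] at he
        rw [← Groth.L18.Frame.rs_rs M iU.le h2]
        exact (congrArg (rs M h2) he).trans (map_zero _)
      · rw [← Groth.L18.Frame.rs_rs M h h1, hι i hi]
        exact map_zero _
  letI : Algebra Γ(X, V) Γ(X, W) := (X.presheaf.map (homOfLE hWV).op).hom.toAlgebra
  haveI : Module.Flat Γ(X, V) Γ(X, W) := by
    have := Scheme.Hom.flat_appLE (𝟙 X) hV hW hWV
    rw [show (𝟙 X : X ⟶ X).appLE V W hWV = X.presheaf.map (homOfLE hWV).op by simp [Scheme.Hom.appLE]] at this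
    exact this
  letI : Module Γ(X, V) Γ(M, W) := Module.compHom _ (X.presheaf.map (homOfLE hWV).op).hom
  haveI : IsScalarTower Γ(X, V) Γ(X, W) Γ(M, W) := IsScalarTower.of_algebraMap_smul fun _ _ => rfl
  have hinj : Module.Injective Γ(X, V) Γ(M, W) := injective_restrictScalars_of_flat (S := Γ(X, W)) _ (hM W hW)
  let res : Γ(M, V) →ₗ[Γ(X, V)] Γ(M, W) :=
    { toFun := rs M hWV
      map_add' := fun s t => map_add (M.presheaf.map (homOfLE hWV).op).hom s t
      map_smul' := fun q s => rs_smul M hWV q s }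
  have hker : LinearMap.ker π ≤ LinearMap.ker (res.comp μ) := by
    rw [← hc, Submodule.span_le]
    rintro _ ⟨j, rfl⟩
    exact hWc j
  let ψ : LinearMap.range π →ₗ[Γ(X, V)] Γ(M, W) :=
    ((LinearMap.ker π).liftQ (res.comp μ) hker).comp π.quotKerEquivRange.symm.toLinearMap
  obtain ⟨ψ', hψ'⟩ := hinj.out (LinearMap.range π).subtype Subtype.val_injective ψ
  let μ₀ := M.presheaf.germ W x hxW (ψ' 1)
  have key : ∀ i, φ ⟨a i, hmem i⟩ = a i • μ₀ := fun i => by
    classical
    have h1 : r i = π (Pi.single i 1) := by simp [π, Fintype.linearCombination_apply_single]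
    have h2 : ψ' (r i) = rs M hWV (m i) := by
      rw [h1]
      refine (hψ' ⟨_, LinearMap.mem_range_self π _⟩).trans ?_
      simp only [ψ, LinearMap.comp_apply, LinearEquiv.coe_coe, LinearMap.quotKerEquivRange_symm_apply_image,
        Submodule.mkQ_apply, Submodule.liftQ_apply]
      show rs M hWV (μ _) = _
      simp [μ, Fintype.linearCombination_apply_single]
    have h3 : ψ' (r i) = ro hWV (r i) • ψ' 1 := by
      conv_lhs => rw [show r i = r i • (1 : Γ(X, V)) from (mul_one _).symm]
      exact map_smul ψ' _ _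
    rw [← hm i, ← germ_rs M hWV hxW (m i), ← h2, h3, germ_smul]
    exact congrArg (fun t => t • M.presheaf.germ W x hxW (ψ' 1))
      ((TopCat.Presheaf.germ_res_apply X.presheaf _ x hxW (r i)).trans (hr i))
  refine ⟨LinearMap.toSpanSingleton _ _ μ₀, fun q hq => ?_⟩
  have hle : Submodule.span (X.presheaf.stalk x) (Set.range fun i => (⟨a i, hmem i⟩ : 𝔞)) = ⊤ := by
    refine Submodule.map_injective_of_injective (f := 𝔞.subtype) Subtype.val_injective ?_
    rw [Submodule.map_span, Submodule.map_top, Submodule.range_subtype, ← Set.range_comp]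
    exact ha
  have hext : φ = (LinearMap.toSpanSingleton _ _ μ₀).comp 𝔞.subtype :=
    LinearMap.ext_on hle (by rintro _ ⟨i, rfl⟩; exact key i)
  exact (LinearMap.congr_fun hext ⟨q, hq⟩).symm

end Groth.L17.ComplExt
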