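import Groth.Agent.L17.ComplExt.HomComp
import Groth.Agent.L17.ComplExt.StalkInj
import Groth.Agent.L17.ComplExt.FormalVanish
import Groth.Agent.L17.LocalGlobalExt
import Groth.Agent.L22.ExtSh.Vanish
import Groth.Agent.L22.FLI.Sections
import Groth.Agent.L15.ExtZero.ExtAdj

/-!
# Extensions of completed coherent modules by completed injective modules vanish
-/

set_option autoImplicit false
set_option linter.style.haveILetI false
set_option linter.unusedSectionVars false
set_option backward.isDefEq.respectTransparency false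
set_option backward.isDefEq.respectTransparency.types false
set_option maxHeartbeats 400000

universe u

open CategoryTheory CategoryTheory.Limits CategoryTheory.Abelian AlgebraicGeometry TopologicalSpace Opposite

noncomputable section

namespace Groth.L17.ComplExt

open Groth.L17 Groth.L17.FSheaf
open Groth.L16.HomSh (homMod homModF)

attribute [local instance] HasDerivedCategory.standard

section

variable {X : Scheme.{u}} [IsLocallyNoetherian X] {F M : X.Modules}

/-- Modules with injective stalks have no local extensions. -/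
theorem isZero_extSh_of_stalk (hF : Coh.IsCoh F) [ModSite.HasSheafHom (O := X.sheaf) F]
    [HasInjectiveResolutions (ModSite.Mod X.sheaf)]
    (hM : ∀ x : X, Module.Injective (X.presheaf.stalk x) (M.presheaf.stalk x)) (q : ℕ) :
    IsZero ((ModSite.extSh (O := X.sheaf) F (q + 1)).obj M) := by
  refine (Groth.L22.ExtSh.isZero_extSh_iff hF M (q + 1)).2 fun x => ?_
  haveI := hM x
  haveI : Injective (ModuleCat.of (X.presheaf.stalk x) (M.presheaf.stalk x)) :=
    Module.injective_object_of_injective_module (X.presheaf.stalk x) (M.presheaf.stalk x)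
  exact subsingleton_of_forall_eq 0 fun y => Ext.eq_zero_of_injective y

/-- Without local extensions the extensions are the cohomology of the homomorphisms. -/
theorem subsingleton_ext_iff (hF : Coh.IsCoh F)
    [HasExt.{u} (ModSite.Mod X.sheaf)] [HasInjectiveResolutions (ModSite.Mod X.sheaf)]
    (hM : ∀ x : X, Module.Injective (X.presheaf.stalk x) (M.presheaf.stalk x)) (n : ℕ) :
    Subsingleton (Ext.{u} (C := ModSite.Mod X.sheaf) F M n) ↔
      Subsingleton (HU (X := X.toTopCat) ⊤
        ((SheafOfModules.toSheaf (ModSite.ringSh X.sheaf)).obj (homMod F M)) n) := by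
  haveI : ModSite.HasSheafHom (O := X.sheaf) F := Groth.L00.ModSiteTensor.hasSheafHom (O := X.sheaf) F
  let F' : ModSite.Mod X.sheaf := F
  let M' : ModSite.Mod X.sheaf := M
  let J := Opens.grothendieckTopology X
  let Z : Sheaf J AddCommGrpCat.{u} :=
    (constantSheaf J AddCommGrpCat.{u}).obj (AddCommGrpCat.of (ULift.{u} ℤ))
  let A := SheafOfModules.toSheaf (ModSite.ringSh X.sheaf)
  let T := ModSite.sheafHom F'
  haveI : PreservesFiniteColimits A :=
    ⟨fun K _ _ => Groth.L21.Mod.preservesColimitsOfShape_toSheaf (R := ModSite.ringSh X.sheaf)⟩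
  have hA : ∀ Q : ModSite.Mod X.sheaf, Injective Q → ∀ q : ℕ, 0 < q →
      IsZero (((GrothSS.homFun Z).rightDerived q).obj ((T ⋙ A).obj Q)) := fun Q hQ q hq => by
    obtain ⟨k, rfl⟩ : ∃ k, q = k + 1 := ⟨q - 1, by omega⟩
    haveI := hQ
    obtain ⟨e⟩ := GrothSS.nonempty_rightDerived_homFun Z ((T ⋙ A).obj Q) (k + 1)
    have : Subsingleton (Ext.{u} ((Groth.L10.SiteFr.fr J).obj (Groth.L17.HomAcyclic.ptSh J))
        (A.obj (T.obj Q)) (k + 1)) :=
      HomAcyclic.isTotallyAcyclic_sheafHom X.sheaf F' Q _ k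
    have : Subsingleton (Ext.{u} Z ((T ⋙ A).obj Q) (k + 1)) :=
      subsingleton_of_forall_eq 0 fun x => by
        have hx : (Ext.mk₀ (Groth.L17.HomAcyclic.constIso J).hom).comp x (zero_add (k + 1)) = 0 :=
          Subsingleton.elim (α := Ext.{u} ((Groth.L10.SiteFr.fr J).obj (Groth.L17.HomAcyclic.ptSh J))
            (A.obj (T.obj Q)) (k + 1)) _ _
        have h := congrArg (fun w => (Ext.mk₀ (Groth.L17.HomAcyclic.constIso J).inv).comp w (zero_add (k + 1))) hx
        simpa using h
    exact (AddCommGrpCat.isZero_of_subsingleton _).of_iso e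
  have hX : ∀ q : ℕ, 0 < q → IsZero (((T ⋙ A).rightDerived q).obj M') := fun q hq => by
    obtain ⟨k, rfl⟩ : ∃ k, q = k + 1 := ⟨q - 1, by omega⟩
    exact (A.map_isZero (isZero_extSh_of_stalk hF hM k)).of_iso
      (Groth.L10.SiteCoh.rightDerivedCompIso T A (k + 1) M')
  obtain ⟨e₁⟩ := GrothSS.nonempty_rightDerived_homFun F' M' n
  obtain ⟨e₂⟩ := GrothSS.nonempty_rightDerived_comp_of_acyclic (T ⋙ A) (GrothSS.homFun Z) hA M' hX n
  obtain ⟨e₃⟩ := GrothSS.nonempty_rightDerived_homFun Z ((T ⋙ A).obj M') n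
  let eH : (T ⋙ A).obj M' ≅ A.obj (homMod F M) := A.mapIso ((Groth.L22.ExtSh.homModSiteIso F).app M)
  let E := (e₁.symm ≪≫ (Groth.L10.SiteCoh.rightDerivedCongr (HomAcyclic.homFunIso X.sheaf F').symm n).app M' ≪≫ e₂ ≪≫ e₃)
  let e := E.addCommGroupIsoToAddEquiv.toEquiv.trans ((hTopEquiv (X := X.toTopCat) ((T ⋙ A).obj M') n).toEquiv.trans
    ({ toFun := fun x => huMap eH.hom x
       invFun := fun x => huMap eH.inv x
       left_inv := fun x => by simp [huMap]
       right_inv := fun x => by simp [huMap] } :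
      HU (X := X.toTopCat) ⊤ ((T ⋙ A).obj M') n ≃ HU (X := X.toTopCat) ⊤ (A.obj (homMod F M)) n))
  exact e.subsingleton_congr

end

variable {A : Type u} [CommRing A] [IsNoetherianRing A] {I : Ideal A} [IsAdicComplete I A]
  {X : Scheme.{u}} (f : X ⟶ Spec (CommRingCat.of A)) [IsProper f] {𝔛 : FSch.Sys.{u}} {p : ∀ k, 𝔛.X k ⟶ X}
  (hA : IsCompl I f 𝔛 p) (hX : 𝔛.IsLocNoethFormal)

/-- Completed modules of injective quasi-coherent modules have injective stalks. -/
theorem injective_stalk_MC [IsLocallyNoetherian X] (J : X.Modules) [Injective J] (hJ : Coh.IsQCoh J) (x : X) :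
    Module.Injective (X.presheaf.stalk x) ((MC hX.1 hA.comm J).presheaf.stalk x) := by
  haveI : CompactSpace X := QuasiCompact.compactSpace_of_compactSpace f
  haveI : AlgebraicGeometry.IsNoetherian X := {}
  haveI := hA.closedImmersion 0
  have hcut := hA.cutBy
  refine injective_stalk_of_affine _ (fun W hW => ?_) x
  letI : Algebra Γ(X, W) (O 𝔛 hX.1 (pU 𝔛 p W)) := algShp _ hX.1 _ hA.comm W
  letI := modShp _ hX.1 _ hA.comm W (CS 𝔛 hX.1 p hA.comm J W)
  haveI : IsScalarTower Γ(X, W) (O 𝔛 hX.1 (pU 𝔛 p W))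
      (CS 𝔛 hX.1 p hA.comm J W) := IsScalarTower.of_algebraMap_smul fun _ _ => rfl
  haveI : Module.Flat Γ(X, W) (O 𝔛 hX.1 (pU 𝔛 p W)) := flat_shp _ hX.1 _ hA.comm hcut hW
  haveI : IsNoetherianRing Γ(X, W) := IsLocallyNoetherian.component_noetherian ⟨W, hW⟩
  have h := injective_of_isBaseChange (T := CS 𝔛 hX.1 p hA.comm J W)
    (Groth.L22.FLI.injective_sections hW J) (isBCAt_qcoh hA.comm hX hcut hJ hW)
  exact h

/-- Completed injective modules have no higher extensions by completed coherent modules. -/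
theorem subsingleton_ext_completion [IsLocallyNoetherian X] [HasExt.{u} (ModSite.Mod X.sheaf)]
    [HasExt.{u} (FSch.ModF 𝔛 hX.1)]
    {F : X.Modules} (hF : Coh.IsCoh F) (J : X.Modules) [Injective J] (hJ : Coh.IsQCoh J) (n : ℕ) :
    Subsingleton (Ext.{u} ((kap 𝔛 hX.1 p hA.comm).pull.obj F)
      ((kap 𝔛 hX.1 p hA.comm).pull.obj J) (n + 1)) := by
  haveI : CompactSpace X := QuasiCompact.compactSpace_of_compactSpace f
  haveI : AlgebraicGeometry.IsNoetherian X := {}
  haveI : IsGrothendieckAbelian.{u} (ModSite.Mod X.sheaf) := Groth.L10.shMod_isGrothendieckAbelian _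
  haveI : IsGrothendieckAbelian.{u} (FSch.ModF 𝔛 hX.1) := Groth.L10.shMod_isGrothendieckAbelian _
  haveI : HasInjectiveResolutions (ModSite.Mod X.sheaf) := inferInstance
  haveI := hA.closedImmersion 0
  have hcut := hA.cutBy
  let κ := kap 𝔛 hX.1 p hA.comm
  haveI : PreservesFiniteColimits κ.push := RpushComp.preservesFiniteColimits_pushKap hX.1 _ _
  haveI : PreservesFiniteLimits κ.pull := isFlat_kap _ hX.1 _ hA.comm hcut
  haveI : κ.pull.PreservesMonomorphisms := inferInstance
  haveI : κ.push.Additive := κ.adj.right_adjoint_additive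
  -- no cohomology of the homomorphisms
  have h0 : Subsingleton (HU (X := X.toTopCat) ⊤
      ((SheafOfModules.toSheaf (ModSite.ringSh X.sheaf)).obj (homMod F J)) (n + 1)) :=
    (subsingleton_ext_iff hF (M := J) (fun x => Groth.L22.ExtSh.injective_stalk J x) (n + 1)).1
      (subsingleton_of_forall_eq 0 fun y => Ext.eq_zero_of_injective y)
  haveI : Coh.IsQCoh J := hJ
  haveI : Coh.IsQCoh F := hF.1
  obtain ⟨e⟩ := nonempty_homMod_iso hA.comm hX hcut hF hJ
  have h1 : Subsingleton (HU (X := X.toTopCat) ⊤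
      ((SheafOfModules.toSheaf (ModSite.ringSh X.sheaf)).obj (homMod F (MC hX.1 hA.comm J))) (n + 1)) :=
    subsingleton_of_forall_eq 0 fun y => by
      have hy : huMap e.inv y = 0 := hu_MC_eq_zero f hA hX (n + 1) (Groth.L16.HomSh.isQCoh_homMod hF J)
        (fun z => @Subsingleton.elim _ h0 z 0) _
      have := congrArg (huMap e.hom) hy
      simpa [huMap] using this
  have h2 : Subsingleton (Ext.{u} (C := ModSite.Mod X.sheaf) F (κ.push.obj (κ.pull.obj J)) (n + 1)) :=
    (subsingleton_ext_iff hF (M := MC hX.1 hA.comm J) (injective_stalk_MC f hA hX J hJ) (n + 1)).2 h1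
  exact @Function.Injective.subsingleton _ _ _ (Groth.L15.ExtAdj.β_bijective κ.adj (F : ModSite.Mod X.sheaf)
    (κ.pull.obj J) (n + 1)).1 h2

end Groth.L17.ComplExt
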