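import Groth.Agent.L17.ComplExt.QcohBC
import Groth.Agent.L16.HomSh.Coherent
import Groth.Agent.L17.FSheaf.ComplFlat
import Mathlib.Topology.Sheaves.SheafCondition.Sites

/-!
# Homomorphisms into a completed module are the completed homomorphisms
-/

set_option autoImplicit false
set_option linter.style.haveILetI false
set_option linter.unusedSectionVars false
set_option backward.isDefEq.respectTransparency false
set_option backward.isDefEq.respectTransparency.types false
set_option maxHeartbeats 400000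

universe u

open CategoryTheory CategoryTheory.Limits AlgebraicGeometry TopologicalSpace Opposite TensorProduct

noncomputable section

namespace Groth.L17.ComplExt

open Groth.L17.FSheaf
open Groth.L18.Frame (rs ro rs_smul)
open Groth.L16.HomSh (homMod ev secEquiv exists_linearEquiv secEquiv_rs ev_rs isQCoh_homMod post)

variable {X : Scheme.{u}} {𝔛 : FSch.Sys.{u}} (h : 𝔛.IsFormal) {p : ∀ k, 𝔛.X k ⟶ X}
  (hp : ∀ k, 𝔛.ι k ≫ p (k + 1) = p k)

/-- The completed module on the scheme. -/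
abbrev MC (G : X.Modules) : X.Modules := (kap 𝔛 h p hp).push.obj ((kap 𝔛 h p hp).pull.obj G)

/-- Restriction of completed sections. -/
abbrev rsC (G : X.Modules) {V W : X.Opens} (e : V ≤ W) (t : CS 𝔛 h p hp G W) : CS 𝔛 h p hp G V :=
  rs (MC h hp G) e t

theorem rsC_unitSec (G : X.Modules) {V W : X.Opens} (e : V ≤ W) (q : Γ(G, W)) :
    rsC h hp G e (unitSec 𝔛 h p hp G W q) = unitSec 𝔛 h p hp G V (rs G e q) :=
  (PresheafOfModules.naturality_apply ((kap 𝔛 h p hp).adj.unit.app G).val (homOfLE e).op q).symm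

theorem rsC_smul (G : X.Modules) {V W : X.Opens} (e : V ≤ W) (s : O 𝔛 h (pU 𝔛 p W)) (t : CS 𝔛 h p hp G W) :
    rsC h hp G e (s • t) =
      (show O 𝔛 h (pU 𝔛 p V) from (𝔛.Osh h).obj.map (homOfLE ((p 0).preimage_mono e)).op s) • rsC h hp G e t :=
  PresheafOfModules.map_smul ((kap 𝔛 h p hp).pull.obj G).val (homOfLE ((p 0).preimage_mono e)).op s t

variable {F I : X.Modules}

/-- Evaluation of a section of the homomorphisms into a completed module, on the open itself. -/
abbrev evC {W : X.Opens} (t : Γ(homMod F (MC h hp I), W)) (x : Γ(F, W)) : CS 𝔛 h p hp I W :=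
  ev (secEquiv W t) le_rfl x

/-- What pins the comparison over an affine open. -/
structure IsCmp (W : X.Opens) (θ : CS 𝔛 h p hp (homMod F I) W →+ Γ(homMod F (MC h hp I), W)) : Prop where
  unit : ∀ q : Γ(homMod F I, W), θ (unitSec 𝔛 h p hp (homMod F I) W q) =
    (post F ((kap 𝔛 h p hp).adj.unit.app I)).app W q
  smul : ∀ (s : O 𝔛 h (pU 𝔛 p W)) (w : CS 𝔛 h p hp (homMod F I) W) (y : Γ(F, W)),
    evC h hp (θ (s • w)) y = s • evC h hp (θ w) y

section

variable (hX : 𝔛.IsLocNoethFormal) [AlgebraicGeometry.IsNoetherian X] [IsClosedImmersion (p 0)]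
  {𝓘 : X.IdealSheafData} (hcut : CutBy 𝔛 p 𝓘) (hF : Coh.IsCoh F) (hI : Coh.IsQCoh I)

include hcut hF hI

theorem exists_isCmp {W : X.Opens} (hW : IsAffineOpen W) :
    ∃ θ, IsCmp hX.1 hp (F := F) (I := I) W θ ∧ Function.Bijective θ := by
  haveI : Coh.IsQCoh F := hF.1
  haveI := hI
  let Q := homMod F I
  haveI hQ : Coh.IsQCoh Q := isQCoh_homMod hF I
  let M := MC hX.1 hp I
  let G := homMod F M
  let R := Γ(X, W)
  let S := O 𝔛 hX.1 (pU 𝔛 p W)
  letI : Algebra R S := algShp 𝔛 hX.1 p hp W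
  letI := fun N : X.Modules => modShp 𝔛 hX.1 p hp W (CS 𝔛 hX.1 p hp N W)
  haveI : ∀ N : X.Modules, IsScalarTower R S (CS 𝔛 hX.1 p hp N W) :=
    fun N => IsScalarTower.of_algebraMap_smul fun _ _ => rfl
  haveI : Module.Flat R S := flat_shp 𝔛 hX.1 p hp hcut hW
  haveI : IsNoetherianRing R := IsLocallyNoetherian.component_noetherian ⟨W, hW⟩
  haveI : Module.Finite R Γ(F, W) := Groth.L20.ModStalk.finite_sections _ hF hW
  haveI : Module.FinitePresentation R Γ(F, W) := Module.finitePresentation_of_finite _ _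
  have hbQ : IsBaseChange S (unitSec 𝔛 hX.1 p hp Q W) := isBCAt_qcoh hp hX hcut hQ hW
  have hbI : IsBaseChange S (unitSec 𝔛 hX.1 p hp I W) := isBCAt_qcoh hp hX hcut hI hW
  obtain ⟨eQ, heQ⟩ := exists_linearEquiv (M := F) (N := I) hW
  obtain ⟨eG, heG⟩ := exists_linearEquiv (M := F) (N := M) hW
  let f : Γ(Q, W) →ₗ[R] (Γ(F, W) →ₗ[R] CS 𝔛 hX.1 p hp I W) :=
    (LinearMap.compRight R (M := Γ(F, W)) (unitSec 𝔛 hX.1 p hp I W)).comp eQ.toLinearMap
  have hbH : IsBaseChange S f := by
    have h1 := isBaseChange_comp (N := Γ(F, W)) hbI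
    refine IsBaseChange.of_equiv ((LinearEquiv.baseChange R S _ _ eQ) ≪≫ₗ h1.equiv) fun q => ?_
    rw [LinearEquiv.trans_apply]
    show h1.equiv (LinearMap.baseChange S eQ.toLinearMap ((1 : S) ⊗ₜ[R] q)) = _
    rw [LinearMap.baseChange_tmul, IsBaseChange.equiv_tmul, one_smul]
    rfl
  let T : CS 𝔛 hX.1 p hp Q W →ₗ[S] (Γ(F, W) →ₗ[R] CS 𝔛 hX.1 p hp I W) := hbQ.lift f
  have hTη : ∀ q, T (unitSec 𝔛 hX.1 p hp Q W q) = f q := fun q => hbQ.lift_eq f q
  have hT : Function.Bijective T := by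
    have : T = (hbQ.equiv.symm ≪≫ₗ hbH.equiv).toLinearMap := hbQ.algHom_ext _ _ fun q => by
      rw [hTη]
      show f q = hbH.equiv (hbQ.equiv.symm _)
      rw [IsBaseChange.equiv_symm_apply, IsBaseChange.equiv_tmul, one_smul]
    rw [this]
    exact (hbQ.equiv.symm ≪≫ₗ hbH.equiv).bijective
  let cast : (Γ(F, W) →ₗ[R] CS 𝔛 hX.1 p hp I W) ≃+ (Γ(F, W) →ₗ[R] Γ(M, W)) :=
    { toFun := fun g => { toFun := g, map_add' := g.map_add, map_smul' := g.map_smul }
      invFun := fun g => { toFun := g, map_add' := g.map_add, map_smul' := g.map_smul }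
      left_inv := fun g => rfl
      right_inv := fun g => rfl
      map_add' := fun _ _ => rfl }
  let θ : CS 𝔛 hX.1 p hp Q W →+ Γ(G, W) :=
    (eG.symm.toAddEquiv.toAddMonoidHom).comp (cast.toAddMonoidHom.comp T.toAddMonoidHom)
  have hev : ∀ (w : CS 𝔛 hX.1 p hp Q W) (x : Γ(F, W)), evC hX.1 hp (θ w) x = T w x := fun w x =>
    (heG _ x).symm.trans (LinearMap.congr_fun (eG.apply_symm_apply (cast (T w))) x)
  refine ⟨θ, ⟨fun q => ?_, fun s w y => ?_⟩, eG.symm.bijective.comp (cast.bijective.comp hT)⟩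
  · refine eG.injective (LinearMap.ext fun x => ?_)
    rw [heG, heG]
    refine (hev _ x).trans ?_
    rw [hTη]
    show unitSec 𝔛 hX.1 p hp I W (eQ q x) = _
    rw [heQ]
    rfl
  · rw [hev, hev, map_smul]
    rfl

theorem isCmp_natural {V W : X.Opens} (hW : IsAffineOpen W) (hV : IsAffineOpen V) (e : V ≤ W)
    {θW θV} (hθW : IsCmp hX.1 hp (F := F) (I := I) W θW) (hθV : IsCmp hX.1 hp (F := F) (I := I) V θV)
    (w : CS 𝔛 hX.1 p hp (homMod F I) W) :
    θV (rsC hX.1 hp _ e w) = rs (homMod F (MC hX.1 hp I)) e (θW w) := by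
  haveI : Coh.IsQCoh F := hF.1
  haveI := hI
  let R := Γ(X, W)
  let S := O 𝔛 hX.1 (pU 𝔛 p W)
  letI : Algebra R S := algShp 𝔛 hX.1 p hp W
  letI := fun N : X.Modules => modShp 𝔛 hX.1 p hp W (CS 𝔛 hX.1 p hp N W)
  haveI : ∀ N : X.Modules, IsScalarTower R S (CS 𝔛 hX.1 p hp N W) :=
    fun N => IsScalarTower.of_algebraMap_smul fun _ _ => rfl
  have hbQ : IsBaseChange S (unitSec 𝔛 hX.1 p hp (homMod F I) W) :=
    isBCAt_qcoh hp hX hcut (isQCoh_homMod hF I) hW
  have key : ∀ x : Γ(F, W), evC hX.1 hp (θV (rsC hX.1 hp _ e w)) (rs F e x) = rsC hX.1 hp I e (evC hX.1 hp (θW w) x) := by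
    induction w using hbQ.inductionOn with
    | zero =>
      intro x
      have e0 : rsC hX.1 hp (homMod F I) e 0 = 0 := map_zero _
      rw [e0, map_zero, map_zero]
      exact (map_zero ((MC hX.1 hp I).presheaf.map (homOfLE e).op).hom).symm
    | tmul q =>
      intro x
      rw [rsC_unitSec, hθV.unit, hθW.unit]
      show unitSec 𝔛 hX.1 p hp I V (ev (secEquiv V (rs (homMod F I) e q)) le_rfl (rs F e x)) =
        rsC hX.1 hp I e (unitSec 𝔛 hX.1 p hp I W (ev (secEquiv W q) le_rfl x))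
      rw [rsC_unitSec, secEquiv_rs, ← ev_rs (secEquiv W q) le_rfl e x]
    | smul s w ih =>
      intro x
      rw [rsC_smul, hθV.smul, hθW.smul, ih, rsC_smul]
    | add w₁ w₂ ih₁ ih₂ =>
      intro x
      have e0 : rsC hX.1 hp (homMod F I) e (w₁ + w₂) = rsC hX.1 hp _ e w₁ + rsC hX.1 hp _ e w₂ := map_add _ _ _
      rw [e0, map_add, map_add]
      show evC hX.1 hp (θV (rsC hX.1 hp _ e w₁)) (rs F e x) + evC hX.1 hp (θV (rsC hX.1 hp _ e w₂)) (rs F e x) =
        rsC hX.1 hp I e (evC hX.1 hp (θW w₁) x + evC hX.1 hp (θW w₂) x)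
      exact (congrArg₂ (· + ·) (ih₁ x) (ih₂ x)).trans
        (map_add ((MC hX.1 hp I).presheaf.map (homOfLE e).op).hom _ _).symm
  obtain ⟨eG, heG⟩ := exists_linearEquiv (M := F) (N := MC hX.1 hp I) hV
  apply eG.injective
  haveI : IsNoetherianRing Γ(X, W) := IsLocallyNoetherian.component_noetherian ⟨W, hW⟩
  haveI := Groth.L20.ModStalk.finite_sections _ hF hW
  obtain ⟨n, g, hg⟩ := Module.Finite.exists_fin (R := Γ(X, W)) (M := Γ(F, W))
  obtain ⟨k, r, hr⟩ := Submodule.fg_iff_exists_fin_generating_family.1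
    (IsNoetherian.noetherian (LinearMap.ker (Fintype.linearCombination Γ(X, W) g)))
  obtain ⟨hspan, -⟩ := span_rel_restrict F hW hV e g hg r (fun c hc => by
      have hcm : c ∈ Submodule.span Γ(X, W) (Set.range r) := hr.symm ▸ (LinearMap.mem_ker.2 (by
        rw [Fintype.linearCombination_apply]; exact hc))
      obtain ⟨d, hd⟩ := (Submodule.mem_span_range_iff_exists_fun _).1 hcm
      exact ⟨d, fun i => (congrArg (fun t => t i) hd).symm.trans (by simp [Finset.sum_apply])⟩)
    (fun j => by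
      have : r j ∈ LinearMap.ker (Fintype.linearCombination Γ(X, W) g) := hr ▸ Submodule.subset_span ⟨j, rfl⟩
      rwa [LinearMap.mem_ker, Fintype.linearCombination_apply] at this)
  refine LinearMap.ext_on hspan ?_
  rintro _ ⟨i, rfl⟩
  rw [heG, heG, secEquiv_rs, ← ev_rs (secEquiv W (θW w)) le_rfl e (g i)]
  exact key (g i)

/-- Homomorphisms into a completed module are the completed homomorphisms. -/
theorem nonempty_homMod_iso :
    Nonempty ((SheafOfModules.toSheaf (ModSite.ringSh X.sheaf)).obj (MC hX.1 hp (homMod F I)) ≅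
      (SheafOfModules.toSheaf (ModSite.ringSh X.sheaf)).obj (homMod F (MC hX.1 hp I))) := by
  let A := (SheafOfModules.toSheaf (ModSite.ringSh X.sheaf)).obj (MC hX.1 hp (homMod F I))
  let G := (SheafOfModules.toSheaf (ModSite.ringSh X.sheaf)).obj (homMod F (MC hX.1 hp I))
  let B : X.affineOpens → X.Opens := fun W => W.1
  have hB : Opens.IsBasis (Set.range B) := by
    rw [show Set.range B = X.affineOpens from Subtype.range_val]
    exact X.isBasis_affineOpens
  choose θ hθ hθb using fun W : X.affineOpens => exists_isCmp hp hX hcut hF hI W.2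
  let α : (inducedFunctor B).op ⋙ A.obj ⟶ (inducedFunctor B).op ⋙ G.obj :=
    { app := fun W => AddCommGrpCat.ofHom (θ W.unop)
      naturality := fun W V i => by
        ext w
        exact isCmp_natural hp hX hcut hF hI W.unop.2 V.unop.2 (leOfHom ((inducedFunctor B).map i.unop))
          (hθ W.unop) (hθ V.unop) w }
  let φ : A ⟶ G := ⟨TopCat.Sheaf.restrictHomEquivHom A.obj G hB α⟩
  haveI : IsIso φ := TopCat.Sheaf.isIso_iff_isIso_basis (X := X.toTopCat) hB fun W => by
    show IsIso ((TopCat.Sheaf.restrictHomEquivHom A.obj G hB α).app (op (B W)))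
    rw [TopCat.Sheaf.extend_hom_app A.obj G hB α W, ConcreteCategory.isIso_iff_bijective]
    exact hθb W
  exact ⟨asIso φ⟩

end

end Groth.L17.ComplExt
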