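import Groth.Agent.L17.ComplExt.DerCompl
import Groth.Agent.L17.ComplExt.BaseCompl
import Groth.Agent.L17.DerQC.Noeth
import Groth.Agent.L17.DerQC.MapComp

/-!
# The derived category of ind-coherent modules on a properly algebraic formal scheme
-/

set_option autoImplicit false
set_option linter.style.haveILetI false
set_option linter.unusedSectionVars false
set_option backward.defeqAttrib.useBackward true
set_option backward.isDefEq.respectTransparency false
set_option backward.isDefEq.respectTransparency.types false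
set_option maxHeartbeats 800000

universe u

open CategoryTheory CategoryTheory.Limits CategoryTheory.Pretriangulated AlgebraicGeometry DerivedCategory
open Groth.L17.IndRpush (ind)

attribute [local instance] HasDerivedCategory.standard

noncomputable section

/-- shortcut instance -/
local instance (priority := 10000) abModFP (𝔛 : FSch.Sys.{u}) (h : 𝔛.IsFormal) : Abelian (FSch.ModF 𝔛 h) :=
  inferInstance

/-- shortcut instance -/
local instance (priority := 10000) abModSP {C : Type u} [SmallCategory C] {J : GrothendieckTopology C}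
    (O : Sheaf J CommRingCat.{u}) : Abelian (ModSite.Mod O) :=
  inferInstance

namespace Groth.L17.ComplExt

open Groth.L10 Groth.L17.FSheaf

section Generic

variable {A : Type u} [CommRing A] [IsNoetherianRing A] {I : Ideal A} [IsAdicComplete I A]
  {X : Scheme.{u}} (f : X ⟶ Spec (CommRingCat.of A)) [IsProper f] {𝔛 : FSch.Sys.{u}} {p : ∀ k, 𝔛.X k ⟶ X}
  (hA : IsCompl I f 𝔛 p) (hX : 𝔛.IsLocNoethFormal)
  [(ind hX).ContainsZero] [(ind hX).IsClosedUnderKernels] [(ind hX).IsClosedUnderCokernels]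
  [(ind hX).IsClosedUnderFiniteProducts]
  [PreservesFiniteLimits (ind hX).ι] [PreservesFiniteColimits (ind hX).ι]

include hA in
/-- Over a complete base the derived category of ind-coherent modules is `D_lc`. -/
theorem indCoh_derived :
    (ind hX).ι.mapDerivedCategory.Full ∧ (ind hX).ι.mapDerivedCategory.Faithful ∧
      ∀ G : DerivedCategory (FSch.ModF 𝔛 hX.1),
        (ind hX).ι.mapDerivedCategory.essImage G ↔ ∀ i : ℤ, ind hX (SiteCmp.HMod G i) := by
  haveI : IsLocallyNoetherian X := LocallyOfFiniteType.isLocallyNoetherian f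
  haveI : CompactSpace X := QuasiCompact.compactSpace_of_compactSpace f
  haveI : AlgebraicGeometry.IsNoetherian X := {}
  haveI := hA.closedImmersion 0
  let κ := kap 𝔛 hX.1 p hA.comm
  haveI hκ : PreservesFiniteLimits κ.pull := isFlat_kap 𝔛 hX.1 p hA.comm hA.cutBy
  haveI : κ.pull.Additive := SiteCmp.additive_pull κ
  haveI : PreservesFiniteColimits κ.pull := SiteCmp.preservesFiniteColimits_pull κ
  let Q₀ : ObjectProperty X.Modules := fun M => Coh.IsQCoh M
  haveI : Q₀.ContainsZero := Groth.L17.QCohGab.containsZero X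
  haveI : Q₀.IsClosedUnderKernels := Groth.L17.QCohGab.closedKer X
  haveI : Q₀.IsClosedUnderCokernels := Groth.L17.QCohGab.closedCoker X
  haveI : Q₀.IsClosedUnderFiniteProducts := Groth.L17.QCohGab.closedFinProd X
  haveI : PreservesFiniteLimits Q₀.ι := Groth.L17.QCohGab.preservesFiniteLimits_ι X
  haveI : PreservesColimitsOfSize.{u, u} Q₀.ι := Groth.L17.QCohGab.preservesColimits_ι X
  haveI : PreservesFiniteColimits Q₀.ι :=
    preservesFiniteColimits_of_preservesFiniteColimitsOfSize.{u} Q₀.ι fun J _ _ => inferInstance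
  obtain ⟨hff, hes⟩ := indCoh f hA hX
  obtain ⟨_, _, hqc⟩ := Groth.L17.DerQC.noetherian X
  let w : X.Modules ⥤ ModSite.Mod X.sheaf := 𝟭 X.Modules
  let H : Q₀.FullSubcategory ⥤ FSch.ModF 𝔛 hX.1 := Q₀.ι ⋙ κ.pull
  haveI : H.Additive := inferInstanceAs (Q₀.ι ⋙ κ.pull).Additive
  haveI : PreservesFiniteLimits H := comp_preservesFiniteLimits _ _
  haveI : PreservesFiniteColimits H := comp_preservesFiniteColimits _ _
  let E : Q₀.FullSubcategory ⥤ (ind hX).FullSubcategory :=
    (ind hX).lift H fun M => (hes _).2 ⟨M.obj, M.property, ⟨Iso.refl _⟩⟩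
  haveI : E.Full := ⟨fun {M N} g => by
    obtain ⟨a, ha⟩ := (hff M.obj N.obj M.property N.property).2 g.hom
    exact ⟨ObjectProperty.homMk a, ObjectProperty.hom_ext _ ha⟩⟩
  haveI : E.Faithful := ⟨fun {M N} a b h => ObjectProperty.hom_ext _
    ((hff M.obj N.obj M.property N.property).1 (congrArg (fun m => m.hom) h))⟩
  haveI : E.EssSurj := ⟨fun N => by
    obtain ⟨G, hG, ⟨e⟩⟩ := (hes N.obj).1 N.property
    exact ⟨⟨G, hG⟩, ⟨(ind hX).isoMk e⟩⟩⟩
  haveI : E.IsEquivalence := {}
  haveI : E.Additive := Functor.additive_of_preserves_binary_products E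
  haveI : E.asEquivalence.functor.Additive := ‹E.Additive›
  haveI : E.asEquivalence.inverse.Additive := Functor.additive_of_preserves_binary_products _
  haveI : E.mapDerivedCategory.IsEquivalence := Groth.L17.DerQC.isEquivalence_mapDerived E.asEquivalence
  let J := (ind hX).ι.mapDerivedCategory
  let K : DerivedCategory Q₀.FullSubcategory ⥤ DerivedCategory (FSch.ModF 𝔛 hX.1) :=
    Q₀.ι.mapDerivedCategory ⋙ SiteCmp.pullD κ
  let α : E.mapDerivedCategory ⋙ J ≅ K :=
    Groth.L17.DerQC.mapDerivedCompIso (H := H) ((ind hX).liftCompιIso H _) ≪≫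
      (Groth.L17.DerQC.mapDerivedCompIso (G := κ.pull) (H := H) (Iso.refl _)).symm
  have hQ : ∀ M : DerivedCategory Q₀.FullSubcategory,
      WSerre.cohIn (QP X) (Q₀.ι.mapDerivedCategory.obj M) := fun M => (hqc _).2 ⟨M, ⟨Iso.refl _⟩⟩
  haveI : K.Full := ⟨fun {M N} g => by
    obtain ⟨a, ha⟩ := (bijective_pullD f hA hX (hQ M) (hQ N)).2 g
    obtain ⟨b, rfl⟩ := Q₀.ι.mapDerivedCategory.map_surjective a
    exact ⟨b, ha⟩⟩
  haveI : K.Faithful := ⟨fun {M N} a b h =>
    Q₀.ι.mapDerivedCategory.map_injective ((bijective_pullD f hA hX (hQ M) (hQ N)).1 h)⟩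
  let β : J ≅ E.mapDerivedCategory.asEquivalence.inverse ⋙ K :=
    J.leftUnitor.symm ≪≫ Functor.isoWhiskerRight E.mapDerivedCategory.asEquivalence.counitIso.symm J ≪≫
      Functor.associator _ _ _ ≪≫ Functor.isoWhiskerLeft _ α
  refine ⟨Functor.Full.of_iso β.symm, Functor.Faithful.of_iso β.symm, fun G => ⟨?_, fun hG => ?_⟩⟩
  · rintro ⟨M, ⟨e⟩⟩ i
    obtain ⟨eh⟩ := WSerreLib.homology_map_iso (ind hX).ι M i
    exact (ind hX).prop_of_iso (eh.symm ≪≫ (homologyFunctor _ i).mapIso e)
      ((homologyFunctor _ i).obj M).property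
  · obtain ⟨L, hL, ⟨e⟩⟩ := exists_pullD_iso f hA hX hG
    obtain ⟨M, ⟨eM⟩⟩ := (hqc L).1 hL
    exact ⟨E.mapDerivedCategory.obj M, ⟨α.app M ≪≫ (SiteCmp.pullD κ).mapIso eM ≪≫ e⟩⟩

end Generic

/-- The derived category of ind-coherent modules of a properly algebraic formal scheme is `D_lc`. -/
theorem indCoh_derived_of_base {B : Type u} [CommRing B] [IsNoetherianRing B] (J : Ideal B)
    {X : Scheme.{u}} (f : X ⟶ Spec (CommRingCat.of B)) [IsProper f] {𝔛 : FSch.Sys.{u}} {p : ∀ k, 𝔛.X k ⟶ X}
    (hA : IsCompl J f 𝔛 p) (hX : 𝔛.IsLocNoethFormal)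
    [(ind hX).ContainsZero] [(ind hX).IsClosedUnderKernels] [(ind hX).IsClosedUnderCokernels]
    [(ind hX).IsClosedUnderFiniteProducts]
    [PreservesFiniteLimits (ind hX).ι] [PreservesFiniteColimits (ind hX).ι] :
    (ind hX).ι.mapDerivedCategory.Full ∧ (ind hX).ι.mapDerivedCategory.Faithful ∧
      ∀ G : DerivedCategory (FSch.ModF 𝔛 hX.1),
        (ind hX).ι.mapDerivedCategory.essImage G ↔ ∀ i : ℤ, ind hX (SiteCmp.HMod G i) := by
  haveI : IsNoetherianRing (BaseCompl.Bh J) := Groth.Agent.S0543.result B J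
  haveI := BaseCompl.isAdicComplete_Jh J
  haveI := BaseCompl.isProper_fh J f
  exact indCoh_derived (BaseCompl.fh J f) (BaseCompl.isCompl J f hA) hX

end Groth.L17.ComplExt
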