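import Groth.Agent.L17.ComplExt.PropAlg
import Groth.Agent.L17.IndRpush.IndBrown

/-!
# The right adjoint of the derived direct image on `D_lc` of a properly algebraic formal scheme
-/

set_option autoImplicit false
set_option linter.style.haveILetI false
set_option linter.unusedSectionVars false
set_option backward.defeqAttrib.useBackward true
set_option backward.isDefEq.respectTransparency false
set_option backward.isDefEq.respectTransparency.types false

universe u

open CategoryTheory CategoryTheory.Limits AlgebraicGeometry DerivedCategory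
open Groth.L17.IndRpush (ind)

attribute [local instance] HasDerivedCategory.standard

noncomputable section

/-- shortcut instance -/
local instance (priority := 10000) abModFQ (𝔛 : FSch.Sys.{u}) (h : 𝔛.IsFormal) : Abelian (FSch.ModF 𝔛 h) :=
  inferInstance

/-- shortcut instance -/
local instance (priority := 10000) abModSQ {C : Type u} [SmallCategory C] {J : GrothendieckTopology C}
    (O : Sheaf J CommRingCat.{u}) : Abelian (ModSite.Mod O) :=
  inferInstance

namespace Groth.L17.ComplExt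

/-- On a properly algebraic formal scheme the derived direct image on `D_lc` has a right adjoint. -/
theorem isLeftAdjoint_lc_RpushD {B : Type u} [CommRing B] [IsNoetherianRing B] (J : Ideal B)
    {X : Scheme.{u}} (f : X ⟶ Spec (CommRingCat.of B)) [IsProper f] {𝔛 : FSch.Sys.{u}} {p : ∀ k, 𝔛.X k ⟶ X}
    (hA : IsCompl J f 𝔛 p) (hX : 𝔛.IsLocNoethFormal) [CompactSpace (𝔛.X 0)]
    {𝔜 : FSch.Sys.{u}} (h𝔜 : 𝔜.IsFormal) [CompactSpace (𝔜.X 0)] (g : 𝔛 ⟶ 𝔜)
    [SiteCmp.HasRpushD (FSch.homMor g hX.1 h𝔜)] :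
    (ObjectProperty.ι (fun G : DerivedCategory (FSch.ModF 𝔛 hX.1) => ∀ i : ℤ, ind hX (SiteCmp.HMod G i)) ⋙
      SiteCmp.RpushD (FSch.homMor g hX.1 h𝔜)).IsLeftAdjoint := by
  haveI : IsGrothendieckAbelian.{u} (FSch.ModF 𝔛 hX.1) := Groth.L10.shMod_isGrothendieckAbelian _
  haveI := Groth.L17.IndRpush.weakSerre_ind hX
  haveI : (ind hX).IsClosedUnderIsomorphisms := inferInstance
  haveI : (ind hX).IsClosedUnderBinaryProducts := by
    refine ⟨?_⟩
    rintro M ⟨pr⟩
    have h1 : ind hX (pr.diag.obj ⟨WalkingPair.left⟩ ⊞ pr.diag.obj ⟨WalkingPair.right⟩) :=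
      (ind hX).prop_biprod (pr.prop_diag_obj _) (pr.prop_diag_obj _)
    exact (ind hX).prop_of_iso (biprod.isoProd _ _ ≪≫ lim.mapIso (diagramIsoPair pr.diag).symm ≪≫
      (limit.isLimit pr.diag).conePointUniqueUpToIso pr.isLimit) h1
  haveI : (ind hX).IsClosedUnderFiniteProducts := ObjectProperty.IsClosedUnderFiniteProducts.mk'
  haveI := fun {M N : (ind hX).FullSubcategory} (φ : M ⟶ N) => (ind hX).preservesKernels_ι φ
  haveI := fun {M N : (ind hX).FullSubcategory} (φ : M ⟶ N) => (ind hX).preservesCokernels_ι φ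
  haveI : PreservesFiniteLimits (ind hX).ι := Functor.preservesFiniteLimits_of_preservesKernels (ind hX).ι
  haveI : PreservesFiniteColimits (ind hX).ι := Functor.preservesFiniteColimits_of_preservesCokernels (ind hX).ι
  obtain ⟨_, _, hess⟩ := indCoh_derived_of_base J f hA hX
  let P : ObjectProperty (DerivedCategory (FSch.ModF 𝔛 hX.1)) := fun G => ∀ i : ℤ, ind hX (SiteCmp.HMod G i)
  haveI : P.IsClosedUnderIsomorphisms := ⟨fun e h i => (ind hX).prop_of_iso ((homologyFunctor _ i).mapIso e) (h i)⟩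
  let D := (ind hX).ι.mapDerivedCategory
  let D' := P.lift D fun K => (hess _).1 ⟨K, ⟨Iso.refl _⟩⟩
  haveI : D'.EssSurj := ⟨fun G => by
    obtain ⟨K, ⟨e⟩⟩ := (hess G.obj).2 G.property
    exact ⟨K, ⟨P.isoMk e⟩⟩⟩
  haveI : D'.Full := ⟨fun {K L} φ => by
    obtain ⟨k, hk⟩ := D.map_surjective φ.hom
    exact ⟨k, ObjectProperty.hom_ext _ hk⟩⟩
  haveI : D'.Faithful := ⟨fun {K L} a b h => D.map_injective (congrArg (fun m => m.hom) h)⟩
  haveI : D'.IsEquivalence := {}
  haveI : D'.asEquivalence.inverse.IsLeftAdjoint := D'.asEquivalence.symm.toAdjunction.isLeftAdjoint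
  haveI : (D ⋙ SiteCmp.RpushD (FSch.homMor g hX.1 h𝔜)).IsLeftAdjoint :=
    Groth.L17.IndRpush.IndBrown.isLeftAdjoint_mapDerived_RpushD hX h𝔜 g
  haveI : (D'.asEquivalence.inverse ⋙ (D ⋙ SiteCmp.RpushD (FSch.homMor g hX.1 h𝔜))).IsLeftAdjoint := inferInstance
  exact Functor.isLeftAdjoint_of_iso
    (F := D'.asEquivalence.inverse ⋙ (D ⋙ SiteCmp.RpushD (FSch.homMor g hX.1 h𝔜))) ((Functor.associator _ _ _).symm ≪≫
    Functor.isoWhiskerRight ((Functor.associator _ _ _).symm ≪≫
      Functor.isoWhiskerRight D'.asEquivalence.counitIso P.ι ≪≫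
      Functor.leftUnitor _) _)

end Groth.L17.ComplExt
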