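import Groth.Agent.L17.ComplExt.CohBC
import Groth.Agent.L17.ComplExt.SectColim
import Groth.Agent.L09.IndCoh.ComplInd

/-!
# Sections of the completion over affine opens: the quasi-coherent case
-/

set_option autoImplicit false
set_option linter.style.haveILetI false
set_option linter.unusedSectionVars false
set_option backward.isDefEq.respectTransparency false
set_option backward.isDefEq.respectTransparency.types false

universe u

open CategoryTheory CategoryTheory.Limits AlgebraicGeometry TopologicalSpace Opposite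

noncomputable section

namespace Groth.L17.ComplExt

open Groth.L17.FSheaf

variable {X : Scheme.{u}} {𝔛 : FSch.Sys.{u}} (h : 𝔛.IsFormal) {p : ∀ k, 𝔛.X k ⟶ X}
  (hp : ∀ k, 𝔛.ι k ≫ p (k + 1) = p k)

/-- The completion of sections is natural. -/
theorem unitSec_natural {G G' : X.Modules} (φ : G ⟶ G') (W : X.Opens) (m : Γ(G, W)) :
    (((kap 𝔛 h p hp).pull.map φ).val.app (op (pU 𝔛 p W))).hom (unitSec 𝔛 h p hp G W m) =
      unitSec 𝔛 h p hp G' W (φ.app W m) :=
  LinearMap.congr_fun (congrArg (fun t => (SheafOfModules.Hom.val t).app (op W) |>.hom)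
    ((kap 𝔛 h p hp).adj.unit.naturality φ).symm) m

/-- Sections of the completion of a quasi-coherent module are the base change. -/
theorem isBCAt_qcoh (hX : 𝔛.IsLocNoethFormal) [AlgebraicGeometry.IsNoetherian X] [IsClosedImmersion (p 0)]
    {𝓘 : X.IdealSheafData} (hcut : CutBy 𝔛 p 𝓘) {G : X.Modules} (hG : Coh.IsQCoh G) {W : X.Opens}
    (hW : IsAffineOpen W) : IsBCAt 𝔛 hX.1 p hp G W := by
  obtain ⟨Λ, _, hΛ, pres, hpres⟩ := (Groth.L09.IndCoh.qcoh_iff_ind X G).1 hG
  haveI := hX.2.2 0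
  haveI : QuasiSeparatedSpace (𝔛.X 0) := inferInstance
  haveI : QuasiSeparatedSpace X := inferInstance
  let κ := kap 𝔛 hX.1 p hp
  haveI : PreservesColimitsOfSize.{u, u} κ.pull := κ.adj.leftAdjoint_preservesColimits
  have hU : IsAffineOpen (pU 𝔛 p W) := isAffineOpen_pU 𝔛 p hW
  obtain ⟨hM, -⟩ := sect_commutes (OX := X.sheaf) pres.isColimit hW.isCompact hW.isQuasiSeparated
  obtain ⟨hT, hT0⟩ := sect_commutes (X := 𝔛.X 0) (OX := 𝔛.Osh hX.1) (isColimitOfPreserves κ.pull pres.isColimit)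
    hU.isCompact hU.isQuasiSeparated
  letI : Algebra Γ(X, W) (O 𝔛 hX.1 (pU 𝔛 p W)) := algShp 𝔛 hX.1 p hp W
  let F : Λ → X.Modules := fun i => pres.diag.obj i
  letI := fun N : X.Modules => modShp 𝔛 hX.1 p hp W (CS 𝔛 hX.1 p hp N W)
  haveI : ∀ N : X.Modules, IsScalarTower Γ(X, W) (O 𝔛 hX.1 (pU 𝔛 p W)) (CS 𝔛 hX.1 p hp N W) :=
    fun N => IsScalarTower.of_algebraMap_smul fun _ _ => rfl
  haveI : Nonempty Λ := hΛ.nonempty
  exact isBaseChange_colim (Λ := Λ) (unitSec 𝔛 hX.1 p hp G W)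
    (Mi := fun i => Γ(F i, W)) (Ti := fun i => CS 𝔛 hX.1 p hp (F i) W)
    (fun i => unitSec 𝔛 hX.1 p hp (F i) W)
    (fun i => ((pres.ι.app i : F i ⟶ G).val.app (op W)).hom)
    (fun i => ((κ.pull.map (pres.ι.app i)).val.app (op (pU 𝔛 p W))).hom)
    (H := fun i j => i ⟶ j)
    (fun {i j} f => ((pres.diag.map f : F i ⟶ F j).val.app (op W)).hom)
    (fun {i j} f => ((κ.pull.map (pres.diag.map f)).val.app (op (pU 𝔛 p W))).hom)
    (fun i j => ⟨IsFiltered.max i j, ⟨IsFiltered.leftToMax i j⟩, ⟨IsFiltered.rightToMax i j⟩⟩)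
    (fun i m => unitSec_natural hX.1 hp (pres.ι.app i) W m)
    (fun {i j} f m => LinearMap.congr_fun (congrArg (fun t => (SheafOfModules.Hom.val t).app (op W) |>.hom)
      (pres.cocone.w f)) m)
    (fun {i j} f m => (unitSec_natural hX.1 hp (pres.diag.map f) W m).symm)
    hM hT hT0
    (fun i => isBCAt_coh hp hX hcut (hpres i) hW)

end Groth.L17.ComplExt
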