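import Groth.Agent.L17.ComplExt.DerEss
import Groth.Agent.L29.DCoh.Gen.PCHocolim
import Groth.Agent.L29.DCoh.QRlim
import Groth.Agent.L29.DCoh.Gen.QAdj
import Groth.Agent.L29.DCoh.RpushQC

/-!
# Stable colimits and limits of objects with quasi-coherent cohomology
-/

set_option autoImplicit false
set_option linter.style.haveILetI false
set_option linter.unusedSectionVars false
set_option backward.defeqAttrib.useBackward true
set_option backward.isDefEq.respectTransparency false
set_option backward.isDefEq.respectTransparency.types false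

universe u

open CategoryTheory CategoryTheory.Limits CategoryTheory.Pretriangulated AlgebraicGeometry

attribute [local instance] HasDerivedCategory.standard

noncomputable section

namespace Groth.L17.ComplExt

open Groth.L10 DerivedCategory

variable (X : Scheme.{u})

/-- Stable sequences have colimits. -/
theorem hasStableColim_qcoh : HasStableColim (Groth.L29.DC.RpushQC.QC X) := by
  intro E f _ hst
  haveI : HasColimitsOfShape (Discrete (ULift.{u} ℕ)) (DCoh.D X) := Groth.L29.DC.Gen.hasCoproducts_D X _
  haveI : HasColimitsOfShape (Discrete ℕ) (DCoh.D X) :=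
    hasColimitsOfShape_of_equivalence (Discrete.equivalence (Equiv.ulift.{u} : ULift.{u} ℕ ≃ ℕ))
  haveI := Groth.L00.Tensor.grothendieckAbelian_modules X
  obtain ⟨L, g, c, hT⟩ := distinguished_cocone_triangle (𝟙 (∐ E) - DerLim.shiftMap E f)
  let l : ∀ n, E n ⟶ L := fun n => Sigma.ι E n ≫ g
  have hL : DerLim.IsHocolim E f L l := ⟨c, by
    rw [show Sigma.desc l = g from Sigma.hom_ext _ _ fun n => by simp [l]]
    exact hT⟩
  refine ⟨L, l, fun j => ?_, fun K k hk => ?_⟩
  · haveI := Groth.L29.DC.Gen.preservesCoproductsNat_H (X := X) j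
    obtain ⟨e, he⟩ := Groth.Agent.S1034.result (DerivedCategory.homologyFunctor X.Modules j) E f L l hL
    let F : ℕ ⥤ X.Modules := Functor.ofSequence fun n => (DerivedCategory.homologyFunctor X.Modules j).map (f n)
    obtain ⟨n₀, hn₀⟩ := hst j
    have hc : F.IsEventuallyConstantFrom n₀ := fun b h => by
      obtain ⟨d, rfl⟩ := Nat.exists_eq_add_of_le (leOfHom h)
      rw [show h = homOfLE (Nat.le_add_right n₀ d) from Subsingleton.elim _ _]
      clear h
      induction d with
      | zero =>
        rw [show homOfLE (Nat.le_add_right n₀ 0) = 𝟙 n₀ from Subsingleton.elim _ _, F.map_id]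
        infer_instance
      | succ d ih =>
        rw [← homOfLE_comp (Nat.le_add_right n₀ d) (Nat.le_succ (n₀ + d)), Functor.map_comp,
          show F.map (homOfLE (Nat.le_succ (n₀ + d))) = (DerivedCategory.homologyFunctor X.Modules j).map (f (n₀ + d))
            from Functor.ofSequence_map_homOfLE_succ _ _]
        haveI := hn₀ (n₀ + d) (by omega)
        exact IsIso.comp_isIso' ih inferInstance
    refine ⟨n₀, fun n hn => ?_⟩
    rw [← he n]
    haveI : IsIso (colimit.ι F n) :=
      Functor.IsEventuallyConstantFrom.isIso_ι_of_isColimit' hc (colimit.isColimit F) n (homOfLE hn)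
    exact inferInstanceAs (IsIso (colimit.ι F n ≫ e.hom))
  · obtain ⟨φ, hφ⟩ := Triangle.yoneda_exact₂ _ hT (Sigma.desc k) (Sigma.hom_ext _ _ fun n => by
      simp [DerLim.shiftMap, Preadditive.comp_sub, Preadditive.sub_comp, hk n])
    refine ⟨φ, fun n => ?_⟩
    have h1 := congrArg (Sigma.ι E n ≫ ·) hφ
    simp only [Sigma.ι_desc, Triangle.mk_mor₂] at h1
    rw [h1]
    exact Category.assoc _ _ _

/-- Bounded below stable towers have limits. -/
theorem hasStableLim_qcoh : HasStableLim (Groth.L29.DC.RpushQC.QC X) := by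
  intro E t hE hst
  haveI := Groth.L29.DC.QRlim.enoughKInj X
  haveI := Groth.L00.Tensor.grothendieckAbelian_modules X
  haveI : HasProductsOfShape ℕ X.Modules := inferInstance
  haveI := Groth.L10.DerivedProd.hasProductsOfShape (A := X.Modules) (ι := ℕ)
  obtain ⟨L, i, c, hT⟩ := distinguished_cocone_triangle₁ (Pi.lift fun n => Pi.π E n - Pi.π E (n + 1) ≫ t n)
  let a : ∀ n, L ⟶ E n := fun n => i ≫ Pi.π E n
  have hL : CohCx.IsRlimVia E t L a := ⟨c, by
    rw [show Pi.lift a = i from Pi.hom_ext _ _ fun n => by simp [a]]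
    exact hT⟩
  exact ⟨L, a, TowerStab.rlim_w hL, fun j => TowerStab.isIso_H_rlim_const (Groth.L29.DC.QRlim.cover X)
    (Groth.L29.DC.RpushQC.QC X) (fun V => ⟨0, by
      rintro _ ⟨W, hW, rfl⟩ M hM
      exact Groth.L29.DC.QRlim.small_free hM hW⟩) hE hst hL j⟩

end Groth.L17.ComplExt
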